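import Cfsg.Agent.S0215
import Mathlib.GroupTheory.SemidirectProduct
import Cfsg.Agent.Lib.Core.Basic
import Cfsg.Agent.Lib.TwoFusion.QDLocal

/-!
# Involutory automorphisms of groups without odd normal subgroups

An automorphism `α` of order at most two of a finite group `H` with `O(H) = 1`, stabilising a Sylow
`2`-subgroup `R`, with `h α(h)⁻¹ ∈ R → h = α(h)` for all `h`, is trivial (from the `Z*`-theorem).
-/

set_option autoImplicit false
set_option linter.style.haveILetI false

namespace Cfsg.Agent.Lib.TwoFusion.AutFix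

open Subgroup Cfsg

universe u

variable {H : Type u} [Group H] [Finite H]

theorem aut_eq_one (hO : pPrimeCore 2 H = ⊥) (α : MulAut H) (hα : α ^ 2 = 1) (R : Sylow 2 H)
    (hR : ∀ r ∈ (R : Subgroup H), α r ∈ (R : Subgroup H))
    (hfix : ∀ h : H, h * (α h)⁻¹ ∈ (R : Subgroup H) → h * (α h)⁻¹ = 1) : α = 1 := by
  classical
  by_contra hne
  let C : Subgroup (MulAut H) := zpowers α
  let X : Type u := SemidirectProduct H C C.subtype
  let inl' : H →* X := SemidirectProduct.inl
  let inr' : C →* X := SemidirectProduct.inr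
  let α' : C := ⟨α, mem_zpowers α⟩
  let abar : X := inr' α'
  have hC : Finite C := inferInstance
  haveI hXf : Finite X := Finite.of_equiv (H × C) SemidirectProduct.equivProd.symm
  have hordα : orderOf α = 2 := orderOf_eq_prime hα hne
  have hord : orderOf abar = 2 := by
    have h1 : orderOf abar = orderOf α' :=
      orderOf_injective inr' SemidirectProduct.inr_injective α'
    rw [h1, Subgroup.orderOf_mk, hordα]
  have hconj : ∀ h : H, abar * inl' h * abar⁻¹ = inl' (α h) := by
    intro h
    have := SemidirectProduct.inl_aut (φ := C.subtype) α' h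
    have e : abar⁻¹ = SemidirectProduct.inr α'⁻¹ := by
      show (inr' α')⁻¹ = inr' α'⁻¹
      rw [map_inv]
    rw [e]
    exact this.symm
  have hα2 : ∀ h : H, α (α h) = h := by
    intro h
    have h1 : (α ^ 2) h = h := by rw [hα]; rfl
    rwa [pow_two] at h1
  have habar2 : abar * abar = 1 := by
    have := pow_orderOf_eq_one abar
    rwa [hord, pow_two] at this
  have habarinv : abar⁻¹ = abar := by
    rw [inv_eq_iff_mul_eq_one]; exact habar2
  -- a Sylow subgroup of `X`
  let R₁ : Subgroup X := (R : Subgroup H).map inl'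
  have hR₁ : IsPGroup 2 R₁ := R.isPGroup'.map inl'
  have hZp : IsPGroup 2 (zpowers abar) := by
    apply IsPGroup.of_card (n := 1)
    rw [Nat.card_zpowers, hord, pow_one]
  have hnorm : zpowers abar ≤ normalizer (R₁ : Set X) := by
    rw [zpowers_le, mem_normalizer_iff]
    have h1 : ∀ n ∈ R₁, abar * n * abar⁻¹ ∈ R₁ := by
      rintro _ ⟨r, hr, rfl⟩
      rw [hconj]
      exact ⟨α r, hR r hr, rfl⟩
    intro n
    constructor
    · exact h1 n
    · intro hn
      have h2 := h1 _ hn
      rw [habarinv] at h2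
      have e : abar * (abar * n * abar) * abar = n := by
        calc abar * (abar * n * abar) * abar = (abar * abar) * n * (abar * abar) := by group
          _ = n := by rw [habar2]; group
      rwa [e] at h2
  have hY : IsPGroup 2 (R₁ ⊔ zpowers abar : Subgroup X) := hR₁.to_sup_of_normal_left' hZp hnorm
  obtain ⟨P, hP⟩ := hY.exists_le_sylow
  have hR₁P : R₁ ≤ P := le_sup_left.trans hP
  have habarP : abar ∈ P := hP (mem_sup_right (mem_zpowers abar))
  have hcomap : (P : Subgroup X).comap inl' = R := by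
    apply R.is_maximal' (P.isPGroup'.comap_of_injective inl' SemidirectProduct.inl_injective)
    intro r hr
    exact hR₁P ⟨r, hr, rfl⟩
  -- the element is isolated in `P`
  have hconj2 : ∀ (h : H), inl' h * abar * (inl' h)⁻¹ = inl' (h * (α h)⁻¹) * abar := by
    intro h
    have h1 := hconj h
    have h2 : abar * (inl' h)⁻¹ = inl' (α h)⁻¹ * abar := by
      have h3 := hconj h⁻¹
      rw [map_inv] at h3
      calc abar * (inl' h)⁻¹ = abar * (inl' h)⁻¹ * abar⁻¹ * abar := by
            rw [inv_mul_cancel_right]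
        _ = inl' (α h)⁻¹ * abar := by rw [h3, map_inv]
    rw [mul_assoc, h2, ← mul_assoc, map_mul, map_inv]
  have hiso : ∀ g : X, g * abar * g⁻¹ ∈ P → g * abar * g⁻¹ = abar := by
    intro g hg
    have hgdecomp : g = inl' g.left * inr' g.right := (SemidirectProduct.inl_left_mul_inr_right g).symm
    have hcomm : inr' g.right * abar * (inr' g.right)⁻¹ = abar := by
      have h1 : (g.right) * α' = α' * g.right := by
        obtain ⟨c, hc⟩ := g.right
        obtain ⟨i, rfl⟩ := mem_zpowers_iff.1 hc
        apply Subtype.ext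
        show α ^ i * α = α * α ^ i
        rw [← zpow_add_one, ← zpow_one_add, add_comm]
      have h2 : inr' g.right * abar = abar * inr' g.right := by
        rw [show abar = inr' α' from rfl, ← map_mul, ← map_mul, h1]
      rw [h2, mul_inv_cancel_right]
    have e1 : g * abar * g⁻¹ = inl' g.left * abar * (inl' g.left)⁻¹ := by
      conv_lhs => rw [hgdecomp]
      calc inl' g.left * inr' g.right * abar * (inl' g.left * inr' g.right)⁻¹
          = inl' g.left * (inr' g.right * abar * (inr' g.right)⁻¹) * (inl' g.left)⁻¹ := by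
            simp only [mul_inv_rev, mul_assoc]
        _ = _ := by rw [hcomm]
    rw [e1, hconj2] at hg ⊢
    have h3 : inl' (g.left * (α g.left)⁻¹) ∈ P := by
      have := mul_mem hg (inv_mem habarP)
      rwa [mul_inv_cancel_right] at this
    have h4 : g.left * (α g.left)⁻¹ ∈ (R : Subgroup H) := by
      rw [← hcomap]
      exact h3
    rw [hfix _ h4, map_one, one_mul]
  -- apply the `Z*`-theorem
  obtain ⟨N, hNn, hNodd, hN⟩ := Cfsg.Agent.S0215.result P abar hord habarP hiso
  have hH : N.comap inl' ≤ pPrimeCore 2 H := by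
    apply Cfsg.Agent.Lib.Core.Basic.le_pPrimeCore (hNn.comap inl')
    rw [Nat.coprime_two_right]
    have h1 : Nat.card (N.comap inl') ∣ Nat.card N := by
      let f : N.comap inl' →* N := inl'.subgroupComap N
      have hf : Function.Injective f := by
        intro u v huv
        have h2 := congrArg Subtype.val huv
        exact Subtype.ext (SemidirectProduct.inl_injective h2)
      exact Subgroup.card_dvd_of_injective f hf
    exact Odd.of_dvd_nat hNodd h1
  rw [hO, le_bot_iff] at hH
  apply hne
  ext h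
  have h1 := hN (inl' h)
  have h2 : abar * inl' h * abar⁻¹ * (inl' h)⁻¹ = inl' (α h * h⁻¹) := by
    rw [hconj, map_mul, map_inv]
  rw [h2] at h1
  have h3 : α h * h⁻¹ ∈ N.comap inl' := h1
  rw [hH, mem_bot, mul_inv_eq_one] at h3
  exact h3

section InG

variable {G : Type u} [Group G] [Finite G]

open scoped Pointwise

/-- A `2`-group normalising `H` normalises a Sylow `2`-subgroup of `H`. -/
theorem exists_invariant_sylow (A H : Subgroup G) (hA2 : IsPGroup 2 A)
    (hAH : A ≤ normalizer (H : Set G)) :
    ∃ R : Sylow 2 H, ∀ a ∈ A, ∀ r ∈ (R : Subgroup H).map H.subtype,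
      a * r * a⁻¹ ∈ (R : Subgroup H).map H.subtype := by
  classical
  let φ : A →* MulAut H := (normalizerMonoidHom H).comp (inclusion hAH)
  letI : MulAction A (Sylow 2 H) := MulAction.compHom _ φ
  have h1 := hA2.card_modEq_card_fixedPoints (Sylow 2 H)
  have h2 : Nat.card (Sylow 2 H) ≡ 1 [MOD 2] := card_sylow_modEq_one 2 H
  have h3 : Nat.card (MulAction.fixedPoints A (Sylow 2 H)) ≠ 0 := by
    intro h0
    rw [h0] at h1
    have := h1.symm.trans h2
    exact absurd this (by decide)
  haveI : Nonempty (MulAction.fixedPoints A (Sylow 2 H)) := by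
    by_contra hne
    rw [not_nonempty_iff] at hne
    exact h3 (Nat.card_of_isEmpty)
  obtain ⟨⟨R, hR⟩⟩ := (inferInstance : Nonempty (MulAction.fixedPoints A (Sylow 2 H)))
  refine ⟨R, ?_⟩
  rintro a ha _ ⟨s, hs, rfl⟩
  have h4 : φ ⟨a, ha⟩ • R = R := hR ⟨a, ha⟩
  have h5 : φ ⟨a, ha⟩ s ∈ (R : Subgroup H) := by
    rw [← h4, Sylow.pointwise_smul_def]
    exact Subgroup.smul_mem_pointwise_smul _ _ _ hs
  exact ⟨_, h5, rfl⟩

/-- A subgroup strongly closed in the Sylow subgroup `S`, contained in the Sylow subgroup `S'`, is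
strongly closed in `S'`. -/
theorem stronglyClosed_of_le {S S' : Sylow 2 G} {A : Subgroup G}
    (hA : IsStronglyClosed A (S : Subgroup G)) (hAS' : A ≤ S') :
    IsStronglyClosed A (S' : Subgroup G) := by
  refine ⟨hAS', ?_⟩
  intro x hx g hg
  obtain ⟨y, hy⟩ := MulAction.exists_smul_eq G S S'
  have hmem : ∀ s ∈ (S' : Subgroup G), y⁻¹ * s * y ∈ (S : Subgroup G) := by
    intro s hs
    rw [← hy] at hs
    exact Cfsg.Agent.Lib.TwoFusion.QDLocal.mem_smul_iff.1 hs
  have hmem' : ∀ s ∈ (S : Subgroup G), y * s * y⁻¹ ∈ (S' : Subgroup G) := by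
    intro s hs
    rw [← hy]
    apply Cfsg.Agent.Lib.TwoFusion.QDLocal.mem_smul_iff.2
    have e : y⁻¹ * (y * s * y⁻¹) * y = s := by group
    rwa [e]
  -- conjugation by `y⁻¹` maps `A` into `A`
  have hAy : ∀ a ∈ A, y⁻¹ * a * y ∈ A := by
    intro a ha
    have h1 := hmem a (hAS' ha)
    have h2 := hA.2 a ha y⁻¹ (by simpa using h1)
    simpa using h2
  have hAy' : ∀ a ∈ A, y * a * y⁻¹ ∈ A := by
    -- by finiteness
    have hinj : Function.Injective (fun a : A => (⟨y⁻¹ * a * y, hAy a a.2⟩ : A)) := by
      intro u v huv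
      have := congrArg Subtype.val huv
      simp only [mul_left_inj, mul_right_inj] at this
      exact Subtype.ext this
    have hsurj := Finite.surjective_of_injective hinj
    intro a ha
    obtain ⟨u, hu⟩ := hsurj ⟨a, ha⟩
    have h3 : y⁻¹ * (u : G) * y = a := congrArg Subtype.val hu
    have h4 : y * a * y⁻¹ = u := by rw [← h3]; group
    rw [h4]
    exact u.2
  have h1 := hmem _ hg
  have h2 := hA.2 x hx (y⁻¹ * g) (by simpa [mul_assoc] using h1)
  have h3 := hAy' _ h2
  have e : y * (y⁻¹ * g * x * (y⁻¹ * g)⁻¹) * y⁻¹ = g * x * g⁻¹ := by group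
  rwa [e] at h3

/-- The main statement. -/
theorem le_centralizer (S : Sylow 2 G) (A : Subgroup G) (hA : IsStronglyClosed A (S : Subgroup G))
    (H : Subgroup G) (hAH : A ≤ normalizer (H : Set G)) (hO : pPrimeCore 2 H = ⊥)
    (hdisj : A ⊓ H = ⊥) : A ≤ centralizer (H : Set G) := by
  classical
  have hA2 : IsPGroup 2 A := S.isPGroup'.to_le hA.1
  obtain ⟨R, hR⟩ := exists_invariant_sylow A H hA2 hAH
  -- the two-group generated by `R` and `A`
  set R₁ : Subgroup G := (R : Subgroup H).map H.subtype with hR₁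
  have hR₁p : IsPGroup 2 R₁ := R.isPGroup'.map H.subtype
  have hnorm : A ≤ normalizer (R₁ : Set G) := by
    intro a ha
    exact mem_normalizer_fintype (fun r hr => hR a ha r hr)
  obtain ⟨S', hS'⟩ := (hR₁p.to_sup_of_normal_left' hA2 hnorm).exists_le_sylow
  have hAS' : A ≤ S' := le_sup_right.trans hS'
  have hR₁S' : R₁ ≤ S' := le_sup_left.trans hS'
  have hA' := stronglyClosed_of_le hA hAS'
  -- the key step for an element whose square centralises `H`
  have key : ∀ a ∈ A, a * a ∈ centralizer (H : Set G) → a ∈ centralizer (H : Set G) := by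
    intro a ha ha2
    let a' : normalizer (H : Set G) := ⟨a, hAH ha⟩
    let α : MulAut H := normalizerMonoidHom H a'
    have hαa : ∀ h : H, ((α h : H) : G) = a * h * a⁻¹ := fun h => rfl
    have hα2 : α ^ 2 = 1 := by
      ext h
      rw [pow_two, MulAut.mul_apply, hαa, hαa]
      have e : a * (a * (h : G) * a⁻¹) * a⁻¹ = (a * a) * h * (a * a)⁻¹ := by group
      rw [e]
      have := mem_centralizer_iff.1 ha2 (h : G) h.2
      rw [← this, mul_inv_cancel_right]
      rfl
    have hαR : ∀ r ∈ (R : Subgroup H), α r ∈ (R : Subgroup H) := by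
      intro r hr
      have h1 := hR a ha r ⟨r, hr, rfl⟩
      obtain ⟨s, hs, hse⟩ := h1
      have : α r = s := Subtype.ext hse.symm
      rw [this]
      exact hs
    have hfix : ∀ h : H, h * (α h)⁻¹ ∈ (R : Subgroup H) → h * (α h)⁻¹ = 1 := by
      intro h hh
      have h1 : ((h * (α h)⁻¹ : H) : G) ∈ R₁ := ⟨_, hh, rfl⟩
      have h2 : ((h * (α h)⁻¹ : H) : G) = (h : G) * a * (h : G)⁻¹ * a⁻¹ := by
        rw [Subgroup.coe_mul, Subgroup.coe_inv, hαa]
        group
      rw [h2] at h1
      have h3 : (h : G) * a * (h : G)⁻¹ ∈ (S' : Subgroup G) := by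
        have := mul_mem (hR₁S' h1) (hAS' ha)
        simpa using this
      have h4 := hA'.2 a ha h h3
      have h5 : (h : G) * a * (h : G)⁻¹ * a⁻¹ ∈ A := mul_mem h4 (inv_mem ha)
      have h6 : ((h * (α h)⁻¹ : H) : G) ∈ A ⊓ H := by
        rw [h2]
        refine ⟨h5, ?_⟩
        rw [← h2]
        exact (h * (α h)⁻¹).2
      rw [hdisj, mem_bot] at h6
      exact Subtype.ext h6
    have h1 := aut_eq_one hO α hα2 R hαR hfix
    rw [mem_centralizer_iff]
    intro h hh
    have h2 := congrArg (fun f : MulAut H => ((f ⟨h, hh⟩ : H) : G)) h1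
    simp only [hαa] at h2
    have h3 : a * h * a⁻¹ = h := h2
    calc h * a = (a * h * a⁻¹) * a := by rw [h3]
      _ = a * h := by group
  -- by induction on the order
  have hall : ∀ n : ℕ, ∀ a ∈ A, orderOf a = n → a ∈ centralizer (H : Set G) := by
    intro n
    induction n using Nat.strong_induction_on with
    | _ n ih =>
      intro a ha hn
      by_cases ha1 : a = 1
      · rw [ha1]
        exact one_mem _
      apply key a ha
      have h0 : 0 < orderOf a := orderOf_pos a
      obtain ⟨k, hk⟩ := IsPGroup.iff_orderOf.1 hA2 ⟨a, ha⟩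
      have hk' : orderOf a = 2 ^ k := by
        rw [← hk, Subgroup.orderOf_mk]
      have hk0 : k ≠ 0 := by
        rintro rfl
        rw [pow_zero, orderOf_eq_one_iff] at hk'
        exact ha1 hk'
      apply ih (orderOf (a * a)) _ (a * a) (mul_mem ha ha) rfl
      rw [← hn, ← pow_two, orderOf_pow' a (by norm_num), hk']
      obtain ⟨m, rfl⟩ : ∃ m, k = m + 1 := ⟨k - 1, by omega⟩
      rw [pow_succ, Nat.gcd_eq_right (Nat.dvd_mul_left 2 _)]
      have : 0 < 2 ^ m := by positivity
      rw [Nat.mul_div_cancel _ (by norm_num)]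
      omega
  exact fun a ha => hall _ a ha rfl

end InG

end Cfsg.Agent.Lib.TwoFusion.AutFix
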