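import Cfsg.Prelude.Def_CaseTheorems
import Cfsg.Agent.Lib.TwoFusion.Conj
import Cfsg.Agent.Lib.TwoFusion.SylowForms

/-!
# Sectional 2-rank via bounds on Frattini-type sections
-/

set_option autoImplicit false

namespace Cfsg.Agent.Lib.TwoFusion.SecRank

open Cfsg.Agent.Lib.TwoFusion.Conj

variable {G : Type*} [Group G]

/-- All sections `H / K` with `K ⊇ [H, H] H²` have order at most `2 ^ k`. -/
def SecBd (k : ℕ) (G : Type*) [Group G] : Prop :=
  ∀ H K : Subgroup G, K ≤ H → (∀ x ∈ H, ∀ y ∈ H, x * y * x⁻¹ * y⁻¹ ∈ K) → (∀ x ∈ H, x * x ∈ K) →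
    Nat.card H ≤ 2 ^ k * Nat.card K

/-- `|K| = |K : H ⊓ K| |H ⊓ K|`. -/
lemma card_eq_relIndex_mul_inf (H K : Subgroup G) :
    Nat.card K = H.relIndex K * Nat.card (H ⊓ K : Subgroup G) := by
  have h1 := (H.subgroupOf K).card_mul_index
  have h2 : Nat.card (H.subgroupOf K) = Nat.card (H ⊓ K : Subgroup G) := by
    rw [← Subgroup.inf_subgroupOf_right]
    exact Nat.card_congr (Subgroup.subgroupOfEquivOfLe inf_le_right).toEquiv
  rw [← h1, h2, Subgroup.relIndex, mul_comm]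

/-- `|K| = |K : H| |H|` for `H ≤ K`. -/
lemma card_eq_relIndex_mul {H K : Subgroup G} (h : H ≤ K) :
    Nat.card K = H.relIndex K * Nat.card H := by
  rw [card_eq_relIndex_mul_inf H K, inf_of_le_left h]

/-- A function on `R` which is constant on no two distinct cosets bounds the index. -/
lemma index_le_of_fun {R : Type*} [Group R] (C : Subgroup R) {X : Type*} [Finite X] (f : R → X)
    (h : ∀ r r', f r = f r' → r⁻¹ * r' ∈ C) : C.index ≤ Nat.card X := by
  have inj : Function.Injective (fun q : R ⧸ C => f q.out) := by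
    intro q q' h'
    rw [← q.out_eq', ← q'.out_eq']
    exact QuotientGroup.eq.2 (h _ _ h')
  exact Nat.card_le_card_of_injective _ inj

/-- Relative version. -/
lemma relIndex_le_of_fun (C R : Subgroup G) {X : Type*} [Finite X] (f : G → X)
    (h : ∀ r ∈ R, ∀ r' ∈ R, f r = f r' → r⁻¹ * r' ∈ C) : C.relIndex R ≤ Nat.card X := by
  apply index_le_of_fun (C.subgroupOf R) (fun r : R => f r)
  intro r r' hrr
  rw [Subgroup.mem_subgroupOf]
  exact h r r.2 r' r'.2 hrr

/-- Bound from the class of a single element. -/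
lemma card_le_of_centralizer {H K : Subgroup G} [Finite G] {c : ℕ} (hc : ∀ x ∈ H, ∀ y ∈ H, x * y * x⁻¹ * y⁻¹ ∈ K)
    {y : G} (hy : y ∈ H) (hC : Nat.card (Subgroup.centralizer ({y} : Set G)) ≤ c) :
    Nat.card H ≤ c * Nat.card K := by
  classical
  have h1 : (Subgroup.centralizer ({y} : Set G)).relIndex H ≤ Nat.card K := by
    apply relIndex_le_of_fun _ H (X := K) (fun r =>
      if hr : r ∈ H then ⟨y * r * y⁻¹ * r⁻¹, hc y hy r hr⟩ else 1)
    intro r hr r' hr' hf
    simp only [hr, hr', dif_pos, Subtype.mk.injEq] at hf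
    rw [Subgroup.mem_centralizer_singleton_iff]
    have h2 : r * y⁻¹ * r⁻¹ = r' * y⁻¹ * r'⁻¹ := by
      have h3 : y⁻¹ * (y * r * y⁻¹ * r⁻¹) = y⁻¹ * (y * r' * y⁻¹ * r'⁻¹) := by rw [hf]
      simpa [mul_assoc] using h3
    have h3' : r * y * r⁻¹ = r' * y * r'⁻¹ := by
      have := congrArg (·⁻¹) h2
      simpa [mul_assoc] using this
    have h5 : r⁻¹ * r' * y = y * (r⁻¹ * r') := by
      calc r⁻¹ * r' * y = r⁻¹ * (r' * y * r'⁻¹) * r' := by group
        _ = r⁻¹ * (r * y * r⁻¹) * r' := by rw [h3']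
        _ = y * (r⁻¹ * r') := by group
    exact h5
  have h2 := card_eq_relIndex_mul_inf (Subgroup.centralizer ({y} : Set G)) H
  have h3 : Nat.card (Subgroup.centralizer ({y} : Set G) ⊓ H : Subgroup G) ≤ c :=
    le_trans (Subgroup.card_le_of_le inf_le_left) hC
  rw [h2]
  calc _ ≤ Nat.card K * c := Nat.mul_le_mul h1 h3
    _ = _ := mul_comm _ _

/-- The bound implies the sectional rank bound. -/
theorem sectional_of_secBd [Finite G] {k : ℕ} (h : SecBd k G) : Cfsg.SectionalPRankLE 2 k G := by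
  intro H N _ A hA hA2
  let π := QuotientGroup.mk' N
  let C : Subgroup H := A.comap π
  have hNC : N ≤ C := by
    intro n hn
    change π n ∈ A
    rw [show π n = 1 from (QuotientGroup.eq_one_iff n).2 hn]
    exact A.one_mem
  have hcard : Nat.card C = Nat.card A * Nat.card N := by
    have h1 : C.index = A.index := Subgroup.index_comap_of_surjective _ (QuotientGroup.mk'_surjective N)
    have h2 := C.card_mul_index
    have h3 := A.card_mul_index
    have h4 := Subgroup.card_eq_card_quotient_mul_card_subgroup N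
    have hne : A.index ≠ 0 := Subgroup.index_ne_zero_of_finite
    apply Nat.eq_of_mul_eq_mul_right (Nat.pos_of_ne_zero hne)
    rw [← h1, h2, h4, ← h3, h1]
    ring
  have hmain := h (C.map H.subtype) (N.map H.subtype) (Subgroup.map_mono hNC)
    (by
      rintro _ ⟨x, hx, rfl⟩ _ ⟨y, hy, rfl⟩
      refine ⟨x * y * x⁻¹ * y⁻¹, ?_, by simp⟩
      have h1 : π (x * y * x⁻¹ * y⁻¹) = 1 := by
        have hxy : (⟨π x, hx⟩ : A) * ⟨π y, hy⟩ = ⟨π y, hy⟩ * ⟨π x, hx⟩ :=
          hA.is_comm.comm _ _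
        have hxy' : π x * π y = π y * π x := congrArg Subtype.val hxy
        simp only [map_mul, map_inv]
        rw [hxy']
        group
      exact (QuotientGroup.eq_one_iff _).1 h1)
    (by
      rintro _ ⟨x, hx, rfl⟩
      refine ⟨x * x, ?_, by simp⟩
      have h1 : π (x * x) = 1 := by
        rw [map_mul, ← sq]
        exact hA2 _ hx
      exact (QuotientGroup.eq_one_iff _).1 h1)
  rw [Subgroup.card_map_of_injective H.subtype_injective,
    Subgroup.card_map_of_injective H.subtype_injective, hcard] at hmain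
  exact Nat.le_of_mul_le_mul_right hmain Nat.card_pos

/-- It suffices to bound subgroups of a Sylow subgroup. -/
theorem secBd_of_sylow [Finite G] {k : ℕ} (P : Sylow 2 G)
    (h : ∀ H K : Subgroup G, H ≤ P → K ≤ H → (∀ x ∈ H, ∀ y ∈ H, x * y * x⁻¹ * y⁻¹ ∈ K) →
      (∀ x ∈ H, x * x ∈ K) → Nat.card H ≤ 2 ^ k * Nat.card K) : SecBd k G := by
  have : Fact (Nat.Prime 2) := ⟨Nat.prime_two⟩
  intro H K hKH hc hs
  let K₁ : Subgroup H := K.subgroupOf H
  have hK₁ : K₁.Normal := by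
    constructor
    intro n hn g
    rw [Subgroup.mem_subgroupOf] at hn ⊢
    have h1 := hc g g.2 n (hKH hn)
    have h2 : ((g * n * g⁻¹ : H) : G) = (g : G) * n * (g : G)⁻¹ * (n : G)⁻¹ * n := by
      simp
    rw [h2]
    exact K.mul_mem h1 hn
  have hp : IsPGroup 2 (H ⧸ K₁) := by
    intro q
    obtain ⟨x, rfl⟩ := QuotientGroup.mk_surjective q
    refine ⟨1, ?_⟩
    rw [pow_one, pow_two, ← QuotientGroup.mk_mul, QuotientGroup.eq_one_iff, Subgroup.mem_subgroupOf]
    exact hs x x.2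
  obtain ⟨r, hr⟩ := IsPGroup.iff_card.1 hp
  have hK₁card : Nat.card K₁ = Nat.card K := by
    exact Nat.card_congr (Subgroup.subgroupOfEquivOfLe hKH).toEquiv
  have hcardH : Nat.card H = 2 ^ r * Nat.card K := by
    rw [Subgroup.card_eq_card_quotient_mul_card_subgroup K₁, hr, hK₁card]
  obtain ⟨a, m, hm, hKm⟩ := Nat.exists_eq_two_pow_mul_odd (Nat.card_pos (α := K)).ne'
  have hcH : Nat.card H = 2 ^ (r + a) * m := by
    rw [hcardH, hKm, pow_add, mul_assoc]
  let Q : Sylow 2 H := default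
  have hQ := Cfsg.Agent.Lib.TwoFusion.SylowForms.card_sylow_of_eq Q hm hcH
  let Q' : Subgroup G := (Q : Subgroup H).map H.subtype
  have hQ'card : Nat.card Q' = 2 ^ (r + a) := by
    rw [Subgroup.card_map_of_injective H.subtype_injective, hQ]
  have hQ' : IsPGroup 2 Q' := IsPGroup.of_card hQ'card
  have hQ'H : Q' ≤ H := by
    rintro _ ⟨x, _, rfl⟩
    exact x.2
  obtain ⟨g, hg⟩ := exists_conj_le P hQ'
  have hb := h (Q'.map (MulAut.conj g).toMonoidHom) ((Q' ⊓ K).map (MulAut.conj g).toMonoidHom) hg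
    (Subgroup.map_mono inf_le_left)
    (by
      rintro _ ⟨x, hx, rfl⟩ _ ⟨y, hy, rfl⟩
      refine ⟨x * y * x⁻¹ * y⁻¹, ⟨Q'.mul_mem (Q'.mul_mem (Q'.mul_mem hx hy) (Q'.inv_mem hx)) (Q'.inv_mem hy),
        hc x (hQ'H hx) y (hQ'H hy)⟩, ?_⟩
      simp only [map_mul, map_inv])
    (by
      rintro _ ⟨x, hx, rfl⟩
      exact ⟨x * x, ⟨Q'.mul_mem hx hx, hs x (hQ'H hx)⟩, by simp only [map_mul]⟩)
  rw [card_map_conj, card_map_conj, hQ'card] at hb
  -- the intersection is small
  have hI : Nat.card (Q' ⊓ K : Subgroup G) ∣ 2 ^ a := by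
    have h1 : IsPGroup 2 (Q' ⊓ K : Subgroup G) := hQ'.to_le inf_le_left
    obtain ⟨s, hs'⟩ := IsPGroup.iff_card.1 h1
    have h2 : Nat.card (Q' ⊓ K : Subgroup G) ∣ Nat.card K :=
      Subgroup.card_dvd_of_le inf_le_right
    rw [hKm] at h2
    have h3 : Nat.Coprime (Nat.card (Q' ⊓ K : Subgroup G)) m := by
      rw [hs']
      exact Nat.Coprime.pow_left _ (Nat.coprime_two_left.2 hm)
    exact h3.dvd_of_dvd_mul_right h2
  have hI' : Nat.card (Q' ⊓ K : Subgroup G) ≤ 2 ^ a := Nat.le_of_dvd (by positivity) hI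
  have h5 : 2 ^ (r + a) ≤ 2 ^ (k + a) := by
    rw [pow_add 2 k a]
    exact le_trans hb (Nat.mul_le_mul_left _ hI')
  have h6 : r ≤ k := by
    have := (Nat.pow_le_pow_iff_right (by norm_num : 1 < 2)).1 h5
    omega
  rw [hcardH]
  exact Nat.mul_le_mul_right _ (Nat.pow_le_pow_right (by norm_num) h6)

/-- Bounds in the subgroup as a type give bounds in the ambient group. -/
theorem bound_of_subtype (S : Subgroup G) {k : ℕ} (h : SecBd k S) {H K : Subgroup G} (hHS : H ≤ S)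
    (hKH : K ≤ H) (hc : ∀ x ∈ H, ∀ y ∈ H, x * y * x⁻¹ * y⁻¹ ∈ K) (hs : ∀ x ∈ H, x * x ∈ K) :
    Nat.card H ≤ 2 ^ k * Nat.card K := by
  have h1 := h (H.subgroupOf S) (K.subgroupOf S)
    (fun x hx => by
      rw [Subgroup.mem_subgroupOf] at hx ⊢
      exact hKH hx)
    (fun x hx y hy => by
      rw [Subgroup.mem_subgroupOf] at hx hy ⊢
      exact hc _ hx _ hy)
    (fun x hx => by
      rw [Subgroup.mem_subgroupOf] at hx ⊢
      exact hs _ hx)
  rwa [Nat.card_congr (Subgroup.subgroupOfEquivOfLe hHS).toEquiv,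
    Nat.card_congr (Subgroup.subgroupOfEquivOfLe (hKH.trans hHS)).toEquiv] at h1

/-- Elements of the join of two commuting subgroups are products. -/
lemma exists_mul_of_mem_sup {D B : Subgroup G} (hc : ∀ a ∈ D, ∀ b ∈ B, a * b = b * a) {x : G}
    (hx : x ∈ D ⊔ B) : ∃ d ∈ D, ∃ b ∈ B, x = d * b := by
  let P : Subgroup G :=
    { carrier := {x | ∃ d ∈ D, ∃ b ∈ B, x = d * b}
      mul_mem' := by
        rintro _ _ ⟨d₁, hd₁, b₁, hb₁, rfl⟩ ⟨d₂, hd₂, b₂, hb₂, rfl⟩
        refine ⟨d₁ * d₂, D.mul_mem hd₁ hd₂, b₁ * b₂, B.mul_mem hb₁ hb₂, ?_⟩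
        calc d₁ * b₁ * (d₂ * b₂) = d₁ * (b₁ * d₂) * b₂ := by group
          _ = d₁ * (d₂ * b₁) * b₂ := by rw [hc d₂ hd₂ b₁ hb₁]
          _ = _ := by group
      one_mem' := ⟨1, D.one_mem, 1, B.one_mem, by simp⟩
      inv_mem' := by
        rintro _ ⟨d, hd, b, hb, rfl⟩
        refine ⟨d⁻¹, D.inv_mem hd, b⁻¹, B.inv_mem hb, ?_⟩
        rw [hc d hd b hb, mul_inv_rev] }
  have hle : D ⊔ B ≤ P := sup_le (fun d hd => ⟨d, hd, 1, B.one_mem, by simp⟩)
    (fun b hb => ⟨1, D.one_mem, b, hb, by simp⟩)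
  exact hle hx

/-- Index two style bound in a cyclic subgroup. -/
lemma relIndex_le_two_of_cyclic {c : G} [Finite G] {Y K : Subgroup G}
    (hY : Y ≤ Subgroup.zpowers c) (hs : ∀ x ∈ Y, x * x ∈ K) : K.relIndex Y ≤ 2 := by
  have hcy : IsCyclic (Y.subgroupOf (Subgroup.zpowers c)) := inferInstance
  obtain ⟨⟨⟨a, haC⟩, haY⟩, hgen⟩ := hcy.exists_generator
  have haY' : a ∈ Y := haY
  have hd : K.relIndex Y ∣ 2 := by
    rw [Subgroup.relIndex_dvd_two_iff]
    refine ⟨a, haY', ?_⟩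
    intro b hb
    have hbC := hY hb
    obtain ⟨i, hi⟩ := Subgroup.mem_zpowers_iff.1 (hgen ⟨⟨b, hbC⟩, (Subgroup.mem_subgroupOf).2 hb⟩)
    have hi' : a ^ i = b := by
      have := congrArg (fun w : Y.subgroupOf (Subgroup.zpowers c) => ((w : Subgroup.zpowers c) : G)) hi
      simpa using this
    have haa := hs a haY'
    rcases Int.even_or_odd' i with ⟨k, rfl | rfl⟩
    · right
      rw [← hi', zpow_mul, zpow_two]
      exact K.zpow_mem haa k
    · left
      rw [← hi', ← zpow_add_one, show 2 * k + 1 + 1 = 2 * (k + 1) by ring, zpow_mul, zpow_two]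
      exact K.zpow_mem haa _
  exact Nat.le_of_dvd (by norm_num) hd

/-- Growing a proper subgroup of a finite 2-group by an element squaring into it. -/
lemma exists_step {R : Type*} [Group R] [Finite R] (hR : IsPGroup 2 R) (H : Subgroup R) (hH : H ≠ ⊤) :
    ∃ g, g ∉ H ∧ g ∈ Subgroup.normalizer (H : Set R) ∧ g * g ∈ H := by
  classical
  have hnil : Group.IsNilpotent R := hR.isNilpotent
  have hlt : H < Subgroup.normalizer (H : Set R) :=
    Group.normalizerCondition_of_isNilpotent H (lt_top_iff_ne_top.2 hH)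
  obtain ⟨g₁, hg₁N, hg₁H⟩ := SetLike.exists_of_lt hlt
  obtain ⟨n, hn⟩ := hR g₁
  have hex : ∃ j, g₁ ^ (2 ^ j) ∈ H := ⟨n, by rw [hn]; exact H.one_mem⟩
  have hj : Nat.find hex ≠ 0 := by
    intro h0
    have h1 := Nat.find_spec hex
    rw [h0, pow_zero, pow_one] at h1
    exact hg₁H h1
  obtain ⟨i, hi⟩ := Nat.exists_eq_succ_of_ne_zero hj
  refine ⟨g₁ ^ (2 ^ i), ?_, Subgroup.pow_mem _ hg₁N _, ?_⟩
  · exact Nat.find_min hex (by omega)
  · have h1 := Nat.find_spec hex
    rw [hi] at h1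
    rw [← pow_add, ← two_mul, ← pow_succ']
    exact h1

end Cfsg.Agent.Lib.TwoFusion.SecRank
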