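import Cfsg.Agent.Lib.TwoFusion.Dih
import Cfsg.Agent.Lib.TwoFusion.Conj
import Cfsg.Agent.Lib.Involutions2.Sign

/-!
# Sylow subgroups isomorphic to dihedral groups: basic data
-/

set_option autoImplicit false

namespace Cfsg.Agent.Lib.TwoFusion.DihSylow

open DihedralGroup Cfsg.Agent.Lib.TwoFusion.Dih

variable {X : Type*} [Group X] {m : ℕ}

/-- The embedding of the dihedral group into the ambient group. -/
def iota (S : Subgroup X) (e : S ≃* DihedralGroup m) : DihedralGroup m →* X :=
  S.subtype.comp e.symm.toMonoidHom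

lemma iota_injective (S : Subgroup X) (e : S ≃* DihedralGroup m) :
    Function.Injective (iota S e) :=
  (Subgroup.subtype_injective S).comp e.symm.injective

lemma iota_mem (S : Subgroup X) (e : S ≃* DihedralGroup m) (x : DihedralGroup m) :
    iota S e x ∈ S := (e.symm x).2

lemma exists_iota (S : Subgroup X) (e : S ≃* DihedralGroup m) {x : X} (hx : x ∈ S) :
    ∃ y, iota S e y = x := ⟨e ⟨x, hx⟩, by simp [iota]⟩

lemma range_iota (S : Subgroup X) (e : S ≃* DihedralGroup m) : (iota S e).range = S := by
  ext x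
  constructor
  · rintro ⟨y, rfl⟩
    exact iota_mem S e y
  · intro hx
    obtain ⟨y, hy⟩ := exists_iota S e hx
    exact ⟨y, hy⟩

lemma card_S (S : Subgroup X) (e : S ≃* DihedralGroup m) : Nat.card S = 2 * m := by
  rw [Nat.card_congr e.toEquiv, DihedralGroup.nat_card]

/-- `m` is a power of two, at least two. -/
lemma exists_pow [Finite X] (S : Sylow 2 X) (e : (S : Subgroup X) ≃* DihedralGroup m) (hm : 2 ≤ m) :
    ∃ k, m = 2 ^ (k + 1) := by
  haveI : Fact (Nat.Prime 2) := ⟨Nat.prime_two⟩
  obtain ⟨n, hn⟩ := IsPGroup.iff_card.1 S.isPGroup'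
  rw [card_S _ e] at hn
  have h2 : 2 ∣ m := by
    have h3 : m ∣ 2 ^ n := ⟨2, by rw [← hn]; ring⟩
    obtain ⟨j, -, rfl⟩ := (Nat.dvd_prime_pow Nat.prime_two).1 h3
    cases j with
    | zero => simp at hm
    | succ j => exact ⟨2 ^ j, by ring⟩
  have h3 : m ∣ 2 ^ n := ⟨2, by rw [← hn]; ring⟩
  obtain ⟨j, -, rfl⟩ := (Nat.dvd_prime_pow Nat.prime_two).1 h3
  cases j with
  | zero => simp at hm
  | succ j => exact ⟨j, rfl⟩

/-- The element `m/2` of `ZMod m`. -/
def half (m : ℕ) : ZMod m := ((m / 2 : ℕ) : ZMod m)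

lemma two_mul_half {m : ℕ} (hm : Even m) : 2 * half m = 0 := by
  unfold half
  have h : ((2 * (m / 2) : ℕ) : ZMod m) = 0 := by
    rw [Nat.two_mul_div_two_of_even hm, ZMod.natCast_self]
  exact_mod_cast h

lemma half_ne_zero {m : ℕ} (hm : Even m) (h2 : 2 ≤ m) : half m ≠ 0 := by
  unfold half
  rw [Ne, ZMod.natCast_eq_zero_iff]
  intro hd
  have h1 : 0 < m / 2 := by omega
  have := Nat.le_of_dvd h1 hd
  omega

lemma half_add_self {m : ℕ} (hm : Even m) : half m + half m = 0 := by
  rw [← two_mul, two_mul_half hm]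

lemma neg_half {m : ℕ} (hm : Even m) : - half m = half m := by
  rw [neg_eq_iff_add_eq_zero, half_add_self hm]

/-- The Klein four-subgroup through `sr i`. -/
def kl {m : ℕ} (hm : Even m) (i : ZMod m) : Subgroup (DihedralGroup m) where
  carrier := {x | x = r 0 ∨ x = r (half m) ∨ x = sr i ∨ x = sr (i + half m)}
  one_mem' := Or.inl rfl
  mul_mem' := by
    have h1 := half_add_self hm
    rintro a b (rfl | rfl | rfl | rfl) (rfl | rfl | rfl | rfl) <;>
      simp only [r_mul_r, r_mul_sr, sr_mul_r, sr_mul_sr]
    all_goals first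
      | exact Or.inl (congrArg _ (by ring1))
      | exact Or.inl (congrArg _ (by linear_combination h1))
      | exact Or.inl (congrArg _ (by linear_combination -h1))
      | exact Or.inr (Or.inl (congrArg _ (by ring1)))
      | exact Or.inr (Or.inl (congrArg _ (by linear_combination h1)))
      | exact Or.inr (Or.inl (congrArg _ (by linear_combination -h1)))
      | exact Or.inr (Or.inr (Or.inl (congrArg _ (by ring1))))
      | exact Or.inr (Or.inr (Or.inl (congrArg _ (by linear_combination h1))))
      | exact Or.inr (Or.inr (Or.inl (congrArg _ (by linear_combination -h1))))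
      | exact Or.inr (Or.inr (Or.inr (congrArg _ (by ring1))))
      | exact Or.inr (Or.inr (Or.inr (congrArg _ (by linear_combination h1))))
      | exact Or.inr (Or.inr (Or.inr (congrArg _ (by linear_combination -h1))))
  inv_mem' := by
    have h1 := neg_half hm
    rintro a (rfl | rfl | rfl | rfl)
    · exact Or.inl (by simp)
    · exact Or.inr (Or.inl (by rw [inv_r, h1]))
    · exact Or.inr (Or.inr (Or.inl (inv_sr _)))
    · exact Or.inr (Or.inr (Or.inr (inv_sr _)))

lemma mem_kl {m : ℕ} (hm : Even m) (i : ZMod m) (x : DihedralGroup m) :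
    x ∈ kl hm i ↔ x = r 0 ∨ x = r (half m) ∨ x = sr i ∨ x = sr (i + half m) := Iff.rfl

lemma isKleinFour_kl {m : ℕ} [NeZero m] (hm : Even m) (h2 : 2 ≤ m) (i : ZMod m) :
    IsKleinFour (kl hm i) := by
  classical
  have h0 := half_ne_zero hm h2
  apply isKleinFour_of_card_of_sq
  · have hc : ((kl hm i : Subgroup (DihedralGroup m)) : Set (DihedralGroup m)) =
        (({r 0, r (half m), sr i, sr (i + half m)} : Finset (DihedralGroup m)) : Set (DihedralGroup m)) := by
      ext x
      simp only [SetLike.mem_coe, mem_kl, Finset.coe_insert, Finset.coe_singleton, Set.mem_insert_iff,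
        Set.mem_singleton_iff]
    have h3 : Nat.card (kl hm i) = Nat.card ((kl hm i : Subgroup (DihedralGroup m)) : Set (DihedralGroup m)) := rfl
    rw [h3, hc, Nat.card_coe_set_eq, Set.ncard_coe_finset]
    rw [Finset.card_insert_of_notMem, Finset.card_insert_of_notMem, Finset.card_insert_of_notMem,
      Finset.card_singleton]
    · have : i + half m ≠ i := by
        intro h
        exact h0 (by simpa using h)
      simp only [Finset.mem_singleton, sr.injEq]
      exact this.symm
    · simp
    · simp only [Finset.mem_insert, Finset.mem_singleton, r.injEq, reduceCtorEq, or_self, or_false]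
      exact Ne.symm h0
  · rintro ⟨x, (rfl | rfl | rfl | rfl)⟩
    · apply Subtype.ext
      simp
    · apply Subtype.ext
      simp [sq, half_add_self hm]
    · apply Subtype.ext
      simp [sq]
    · apply Subtype.ext
      simp [sq]

/-- All involutions of a dihedral group. -/
lemma eq_of_sq {m : ℕ} [NeZero m] (hm : Even m) (h2 : 2 ≤ m) {x : DihedralGroup m} (hx : x ^ 2 = 1)
    (hx1 : x ≠ 1) : x = r (half m) ∨ ∃ i, x = sr i := by
  cases x with
  | r a =>
    left
    have h3 : 2 * a = 0 := by
      rw [sq, r_mul_r] at hx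
      rw [two_mul]
      exact r.inj (hx.trans r_zero.symm)
    rcases two_mul_eq_zero h3 (two_mul_half hm) (half_ne_zero hm h2) with rfl | rfl
    · exact absurd r_zero hx1
    · rfl
  | sr i => exact Or.inr ⟨i, rfl⟩

/-- An involution of a Klein four-subgroup is conjugate to every other one if the automizer has order
divisible by three. -/
theorem isConj_of_three_dvd_relIndex [Finite X] {U : Subgroup X} (hU : IsKleinFour U)
    (h3 : 3 ∣ (Subgroup.centralizer (U : Set X)).relIndex (Subgroup.normalizer (U : Set X)))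
    {a b : X} (ha : a ∈ U) (hb : b ∈ U) (ha1 : a ≠ 1) (hb1 : b ≠ 1) : IsConj a b := by
  classical
  haveI : Fact (Nat.Prime 3) := ⟨Nat.prime_three⟩
  haveI : Fintype U := Fintype.ofFinite _
  let ψ := U.normalizerMonoidHom
  have hr : Nat.card ψ.range = (Subgroup.centralizer (U : Set X)).relIndex (Subgroup.normalizer (U : Set X)) := by
    rw [← Subgroup.index_ker, Subgroup.normalizerMonoidHom_ker]
    rfl
  rw [← hr] at h3
  obtain ⟨⟨σ, hσ⟩, hσo⟩ := exists_prime_orderOf_dvd_card' 3 h3
  obtain ⟨n, rfl⟩ := hσ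
  have hσo' : orderOf (ψ n) = 3 := by
    rw [← hσo]
    exact (Subgroup.orderOf_coe ⟨ψ n, _⟩)
  set σ := ψ n with hσdef
  have hσ3 : σ ^ 3 = 1 := by rw [← hσo']; exact pow_orderOf_eq_one σ
  have hσ1 : σ ≠ 1 := by
    intro h
    rw [h, orderOf_one] at hσo'
    omega
  have hact : ∀ u : U, ((σ u : U) : X) = (n : X) * u * (n : X)⁻¹ := fun u => rfl
  -- no nontrivial fixed points
  have hfix : ∀ u : U, u ≠ 1 → σ u ≠ u := by
    intro u hu hfu
    apply hσ1
    have hsq : σ ^ 2 = 1 := by
      ext v
      by_cases hv1 : v = 1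
      · simp [hv1]
      by_cases hvu : v = u
      · subst hvu
        simp [sq, hfu]
      -- `v` and `u` generate
      have hU4 := IsKleinFour.eq_finset_univ hu hv1 (Ne.symm hvu)
      have hσv : σ v ∈ (Finset.univ : Finset U) := Finset.mem_univ _
      rw [← hU4] at hσv
      simp only [Finset.mem_insert, Finset.mem_singleton] at hσv
      rcases hσv with h | h | h | h
      · have : σ (σ v) = v := by
          rw [h, map_mul, hfu, h]
          rw [← mul_assoc, IsKleinFour.mul_self, one_mul]
        simp [sq, this]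
      · exfalso
        rw [← hfu] at h
        exact hvu (σ.injective h)
      · simp [sq, h]
      · exfalso
        apply hv1
        apply σ.injective
        rw [h, map_one]
    have h4 : σ = σ ^ 3 * (σ ^ 2)⁻¹ := by group
    rw [h4, hσ3, hsq]
    simp
  set a' : U := ⟨a, ha⟩ with ha'
  set b' : U := ⟨b, hb⟩ with hb'
  have ha'1 : a' ≠ 1 := fun h => ha1 (congrArg Subtype.val h)
  have hb'1 : b' ≠ 1 := fun h => hb1 (congrArg Subtype.val h)
  have hσa1 : σ a' ≠ 1 := by
    intro h
    apply ha'1
    apply σ.injective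
    rw [h, map_one]
  have hσa : a' ≠ σ a' := (hfix a' ha'1).symm
  have hU4 := IsKleinFour.eq_finset_univ ha'1 hσa1 hσa
  have hbm : b' ∈ (Finset.univ : Finset U) := Finset.mem_univ _
  rw [← hU4] at hbm
  simp only [Finset.mem_insert, Finset.mem_singleton] at hbm
  have hσσ : (σ (σ a')) ∈ (Finset.univ : Finset U) := Finset.mem_univ _
  rw [← hU4] at hσσ
  simp only [Finset.mem_insert, Finset.mem_singleton] at hσσ
  have hσσa : σ (σ a') = a' * σ a' := by
    rcases hσσ with h | h | h | h
    · exact h
    · exfalso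
      have h5 : (σ ^ 3) a' = a' := by rw [hσ3]; rfl
      have h6 : (σ ^ 3) a' = σ (σ (σ a')) := rfl
      rw [h6, h] at h5
      exact hfix a' ha'1 h5
    · exact absurd h (hfix _ hσa1)
    · exfalso
      apply hσa1
      apply σ.injective
      rw [h, map_one]
  rw [isConj_iff]
  rcases hbm with h | h | h | h
  · refine ⟨(n : X) * (n : X), ?_⟩
    have h7 : ((σ (σ a') : U) : X) = (n : X) * ((n : X) * a * (n : X)⁻¹) * (n : X)⁻¹ := rfl
    have h8 : b = ((σ (σ a') : U) : X) := by rw [hσσa, ← h]
    rw [h8, h7]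
    group
  · rw [show b = a from congrArg Subtype.val h]
    exact ⟨1, by simp⟩
  · refine ⟨n, ?_⟩
    rw [show b = ((σ a' : U) : X) from congrArg Subtype.val h]
    rfl
  · exact absurd h hb'1

end Cfsg.Agent.Lib.TwoFusion.DihSylow
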