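import Cfsg.Prelude.Def_Classical
import Cfsg.Agent.Lib.HermCount.Field
import Cfsg.Agent.Lib.Classical.HermOrders
import Cfsg.Agent.Lib.TwoFusion.SylowForms
import Mathlib

/-!
# The Sylow 2-subgroup of `PSU₃(4)`: an explicit model
-/

set_option autoImplicit false

open scoped MatrixGroups commutatorElement

namespace Cfsg.Agent.Lib.TwoFusion.U34

open Cfsg.Agent.Lib.HermCount.Field

variable {F : Type*} [Field F] [Fintype F]

lemma card_F' (hF : Fintype.card F = 16) : Fintype.card F = 4 ^ 2 := by rw [hF]; norm_num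

lemma two_eq_zero' (hF : Fintype.card F = 16) : (2 : F) = 0 := by
  have h : ringChar F = 2 := FiniteField.even_card_iff_char_two.mpr (by rw [hF])
  have h2 := ringChar.Nat.cast_ringChar (R := F)
  rw [h] at h2
  exact_mod_cast h2

lemma pow_sixteen (hF : Fintype.card F = 16) (x : F) : x ^ 16 = x := by
  have := FiniteField.pow_card x
  rwa [hF] at this

lemma add_pow_four (hF : Fintype.card F = 16) (x y : F) : (x + y) ^ 4 = x ^ 4 + y ^ 4 :=
  frob_add (card_F' hF) x y

/-- The carrier of the model of the Sylow `2`-subgroup of `SU₃(4)`. -/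
def H (F : Type*) [Field F] : Type _ := {p : F × F // p.2 + p.2 ^ 4 = p.1 ^ 5}

variable [hf : Fact (Fintype.card F = 16)]

lemma two0 : (2 : F) = 0 := two_eq_zero' hf.out

lemma pw (x : F) : x ^ 16 = x := pow_sixteen hf.out x

lemma ad4 (x y : F) : (x + y) ^ 4 = x ^ 4 + y ^ 4 := add_pow_four hf.out x y

noncomputable instance : Group (H F) where
  mul x y := ⟨(x.1.1 + y.1.1, x.1.2 + y.1.2 + x.1.1 * y.1.1 ^ 4), by
    obtain ⟨⟨a, c⟩, hx⟩ := x
    obtain ⟨⟨a', c'⟩, hy⟩ := y
    simp only at hx hy ⊢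
    have h16 := pw a'
    have e1 : (a + a') ^ 5 = (a + a') * (a ^ 4 + a' ^ 4) := by rw [← ad4]; ring
    rw [e1, ad4, ad4, mul_pow, ← pow_mul]
    have h16' : a' ^ (4 * 4) = a' := h16
    rw [h16']
    linear_combination hx + hy⟩
  one := ⟨(0, 0), by simp⟩
  inv x := ⟨(x.1.1, x.1.2 + x.1.1 ^ 5), by
    obtain ⟨⟨a, c⟩, hx⟩ := x
    simp only at hx ⊢
    have h16 := pw a
    have h2 := two0 (F := F)
    rw [ad4]
    have e : (a ^ 5) ^ 4 = a ^ 5 := by
      calc (a ^ 5) ^ 4 = a ^ 16 * a ^ 4 := by ring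
        _ = a ^ 5 := by rw [h16]; ring
    rw [e]
    linear_combination hx + a ^ 5 * h2⟩
  mul_assoc x y z := by
    obtain ⟨⟨a, c⟩, hx⟩ := x
    obtain ⟨⟨a', c'⟩, hy⟩ := y
    obtain ⟨⟨a'', c''⟩, hz⟩ := z
    apply Subtype.ext
    change (a + a' + a'', c + c' + a * a' ^ 4 + c'' + (a + a') * a'' ^ 4) =
      (a + (a' + a''), c + (c' + c'' + a' * a'' ^ 4) + a * (a' + a'') ^ 4)
    rw [ad4]
    ext <;> simp only <;> ring
  one_mul x := by
    obtain ⟨⟨a, c⟩, hx⟩ := x
    apply Subtype.ext
    change ((0 : F) + a, (0 : F) + c + 0 * a ^ 4) = (a, c)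
    simp
  mul_one x := by
    obtain ⟨⟨a, c⟩, hx⟩ := x
    apply Subtype.ext
    change (a + (0 : F), c + (0 : F) + a * (0 : F) ^ 4) = (a, c)
    simp
  inv_mul_cancel x := by
    obtain ⟨⟨a, c⟩, hx⟩ := x
    apply Subtype.ext
    change (a + a, c + a ^ 5 + c + a * a ^ 4) = ((0 : F), (0 : F))
    have h2 := two0 (F := F)
    ext
    · simp only; linear_combination a * h2
    · simp only; linear_combination (c + a ^ 5) * h2

@[simp] lemma mul_fst (x y : H F) : (x * y).1.1 = x.1.1 + y.1.1 := rfl
@[simp] lemma mul_snd (x y : H F) : (x * y).1.2 = x.1.2 + y.1.2 + x.1.1 * y.1.1 ^ 4 := rfl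
@[simp] lemma one_fst : (1 : H F).1.1 = 0 := rfl
@[simp] lemma one_snd : (1 : H F).1.2 = 0 := rfl
@[simp] lemma inv_fst (x : H F) : (x⁻¹).1.1 = x.1.1 := rfl
@[simp] lemma inv_snd (x : H F) : (x⁻¹).1.2 = x.1.2 + x.1.1 ^ 5 := rfl

lemma H_ext {x y : H F} (h1 : x.1.1 = y.1.1) (h2 : x.1.2 = y.1.2) : x = y :=
  Subtype.ext (Prod.ext h1 h2)

lemma prop_H (x : H F) : x.1.2 + x.1.2 ^ 4 = x.1.1 ^ 5 := x.2

/-- The matrix of an element. -/
def U (a c : F) : Matrix (Fin 3) (Fin 3) F :=
  !![1 + c, c, a; c, 1 + c, a; a ^ 4, a ^ 4, 1]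

lemma det_U (a c : F) : (U a c).det = 1 := by
  have h2 := two0 (F := F)
  rw [U, Matrix.det_fin_three]
  simp
  linear_combination (c - a ^ 5) * h2

lemma U_mul (a c a' c' : F) : U a c * U a' c' = U (a + a') (c + c' + a * a' ^ 4) := by
  have h2 := two0 (F := F)
  have e := ad4 a a'
  ext i j
  fin_cases i <;> fin_cases j <;>
    simp [U, Matrix.mul_apply, Fin.sum_univ_three, e]
  · linear_combination (c * c') * h2
  · linear_combination (c * c') * h2
  · linear_combination (c * a') * h2
  · linear_combination (c * c') * h2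
  · linear_combination (c * c') * h2
  · linear_combination (c * a') * h2
  · linear_combination (a ^ 4 * c') * h2
  · linear_combination (a ^ 4 * c') * h2
  · linear_combination (a ^ 4 * a') * h2

lemma U_herm (a c : F) (h : c + c ^ 4 = a ^ 5) (u v : Fin 3 → F) :
    Cfsg.hermForm 3 F 4 ((U a c).mulVec u) ((U a c).mulVec v) = Cfsg.hermForm 3 F 4 u v := by
  have h2 := two0 (F := F)
  have hB : (a ^ 4) ^ 4 = a := by rw [← pow_mul]; exact pw a
  simp only [Cfsg.hermForm, Fin.sum_univ_three, U, Matrix.mulVec, dotProduct, Matrix.of_apply,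
    Matrix.cons_val', Matrix.cons_val_zero, Matrix.cons_val_one, Matrix.cons_val_two,
    Matrix.empty_val', Matrix.cons_val_fin_one, Matrix.head_cons, Matrix.tail_cons]
  simp only [ad4, mul_pow]
  norm_num
  rw [hB]
  linear_combination ((u 0 + u 1) * (v 0 ^ 4 + v 1 ^ 4)) * h +
    ((u 0 + u 1) * (v 0 ^ 4 + v 1 ^ 4) * a ^ 5 + a ^ 4 * (u 0 + u 1) * v 2 ^ 4 +
      a * u 2 * (v 0 ^ 4 + v 1 ^ 4) +
      (c * (u 0 + u 1) + a * u 2) * (c ^ 4 * (v 0 ^ 4 + v 1 ^ 4) + a ^ 4 * v 2 ^ 4)) * h2

/-- The embedding of the model into `SU₃(4)`. -/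
def ι : H F →* Cfsg.SU 3 F 4 where
  toFun x := ⟨⟨U x.1.1 x.1.2, det_U _ _⟩, fun u v => U_herm _ _ x.2 u v⟩
  map_one' := by
    apply Subtype.ext
    apply Subtype.ext
    have h2 := two0 (F := F)
    change U (0 : F) 0 = 1
    ext i j
    fin_cases i <;> fin_cases j <;> simp [U]
  map_mul' x y := by
    apply Subtype.ext
    apply Subtype.ext
    change U (x.1.1 + y.1.1) (x.1.2 + y.1.2 + x.1.1 * y.1.1 ^ 4) = U x.1.1 x.1.2 * U y.1.1 y.1.2
    rw [U_mul]

lemma ι_injective : Function.Injective (ι (F := F)) := by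
  intro x y hxy
  have h : U x.1.1 x.1.2 = U y.1.1 y.1.2 := by
    have := congrArg (fun z : Cfsg.SU 3 F 4 => (z.1.1 : Matrix (Fin 3) (Fin 3) F)) hxy
    exact this
  apply H_ext
  · simpa [U] using congrFun (congrFun h 0) 2
  · simpa [U] using congrFun (congrFun h 0) 1

/-- The additive trace. -/
noncomputable def T : F →+ F where
  toFun x := x + x ^ 4
  map_zero' := by simp
  map_add' x y := by rw [ad4]; ring

lemma T_apply (x : F) : T x = x + x ^ 4 := rfl

lemma frob_eq_of_T (c : F) (hc : c + c ^ 4 = 0) : c ^ 4 = c := by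
  have h2 := two0 (F := F)
  linear_combination hc - c * h2

lemma T_of_frob (c : F) (hc : c ^ 4 = c) : c + c ^ 4 = 0 := by
  have h2 := two0 (F := F)
  rw [hc]
  linear_combination c * h2

lemma T_range_eq_ker : (T (F := F)).range = (T (F := F)).ker := by
  ext t
  rw [AddMonoidHom.mem_range, AddMonoidHom.mem_ker, T_apply]
  constructor
  · rintro ⟨x, rfl⟩
    rw [T_apply, ad4, ← pow_mul]
    have h16 : x ^ (4 * 4) = x := pw x
    rw [h16]
    have h2 := two0 (F := F)
    linear_combination (x + x ^ 4) * h2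
  · intro ht
    obtain ⟨s, hs⟩ := exists_trace (card_F' hf.out) t (frob_eq_of_T t ht)
    exact ⟨s, hs⟩

lemma card_ker : Nat.card (T (F := F)).ker = 4 := by
  have h1 := (T (F := F)).ker.card_mul_index
  rw [AddSubgroup.index_ker, T_range_eq_ker, Nat.card_eq_fintype_card (α := F), hf.out] at h1
  have h3 : Nat.card (T (F := F)).ker ^ 2 = 4 ^ 2 := by rw [pow_two, h1]; norm_num
  exact Nat.pow_left_injective (n := 2) (by norm_num) h3

lemma exists_sec (a : F) : ∃ s : F, s + s ^ 4 = a ^ 5 := by
  apply exists_trace (card_F' hf.out)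
  calc (a ^ 5) ^ 4 = a ^ 16 * a ^ 4 := by ring
    _ = a ^ 5 := by rw [pw]; ring

/-- Section of `H → F`. -/
noncomputable def sec (a : F) : F := (exists_sec a).choose

lemma sec_spec (a : F) : sec a + sec a ^ 4 = a ^ 5 := (exists_sec a).choose_spec

/-- `H ≃ F × K`. -/
noncomputable def equivProd : H F ≃ F × (T (F := F)).ker where
  toFun x := (x.1.1, ⟨x.1.2 + sec x.1.1, by
    have h2 := two0 (F := F)
    rw [AddMonoidHom.mem_ker, T_apply, ad4]
    linear_combination x.2 + sec_spec x.1.1 + x.1.1 ^ 5 * h2⟩)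
  invFun p := ⟨(p.1, p.2.1 + sec p.1), by
    have h2 := two0 (F := F)
    have hk : p.2.1 + p.2.1 ^ 4 = 0 := p.2.2
    simp only
    rw [ad4]
    linear_combination hk + sec_spec p.1⟩
  left_inv x := by
    have h2 := two0 (F := F)
    apply H_ext
    · rfl
    · change x.1.2 + sec x.1.1 + sec x.1.1 = x.1.2
      linear_combination sec x.1.1 * h2
  right_inv p := by
    have h2 := two0 (F := F)
    obtain ⟨a, c, hc⟩ := p
    apply Prod.ext
    · rfl
    · apply Subtype.ext
      change c + sec a + sec a = c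
      linear_combination sec a * h2

lemma card_H : Nat.card (H F) = 64 := by
  rw [Nat.card_congr (equivProd (F := F)), Nat.card_prod, card_ker, Nat.card_eq_fintype_card, hf.out]

/-- The abstract properties of the model which are invariant under isomorphism. -/
structure Good (X : Type*) [Group X] : Prop where
  card : Nat.card X = 64
  card_center : Nat.card (Subgroup.center X) = 4
  inv_central : ∀ x : X, x * x = 1 → x ∈ Subgroup.center X
  center_inv : ∀ z ∈ Subgroup.center X, z * z = 1
  center_comm : ∀ z ∈ Subgroup.center X, ∃ x y : X, z = ⁅x, y⁆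
  comm_central : ∀ x y : X, ⁅x, y⁆ ∈ Subgroup.center X
  sq_central : ∀ x : X, x * x ∈ Subgroup.center X

lemma mem_center_H (x : H F) : x ∈ Subgroup.center (H F) ↔ x.1.1 = 0 := by
  rw [Subgroup.mem_center_iff]
  constructor
  · intro h
    by_contra ha
    obtain ⟨w, hw⟩ := exists_frob_ne (card_F' hf.out (F := F))
    let y : H F := ⟨(x.1.1 * w, sec (x.1.1 * w)), sec_spec _⟩
    have h1 := h y
    have h2 : (y * x).1.2 = (x * y).1.2 := by rw [h1]
    simp only [mul_snd] at h2
    have h3 : x.1.1 * w * x.1.1 ^ 4 = x.1.1 * (x.1.1 * w) ^ 4 := by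
      change y.1.2 + x.1.2 + x.1.1 * w * x.1.1 ^ 4 = x.1.2 + y.1.2 + x.1.1 * (x.1.1 * w) ^ 4 at h2
      linear_combination h2
    apply hw
    have ha5 : x.1.1 ^ 5 ≠ 0 := pow_ne_zero _ ha
    apply mul_left_cancel₀ ha5
    linear_combination - h3
  · intro h y
    apply H_ext
    · simp [h, add_comm]
    · simp [h]
      ring

lemma sq_fst (x : H F) : (x * x).1.1 = 0 := by
  have h2 := two0 (F := F)
  simp only [mul_fst]
  linear_combination x.1.1 * h2

lemma sq_snd (x : H F) : (x * x).1.2 = x.1.1 ^ 5 := by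
  have h2 := two0 (F := F)
  simp only [mul_snd]
  linear_combination x.1.2 * h2

lemma comm_fst (x y : H F) : (⁅x, y⁆).1.1 = 0 := by
  have h2 := two0 (F := F)
  simp only [commutatorElement_def, mul_fst, inv_fst]
  linear_combination (x.1.1 + y.1.1) * h2

lemma comm_snd (x y : H F) : (⁅x, y⁆).1.2 = x.1.1 * y.1.1 ^ 4 + y.1.1 * x.1.1 ^ 4 := by
  have h2 := two0 (F := F)
  simp only [commutatorElement_def, mul_fst, inv_fst, mul_snd, inv_snd]
  linear_combination (x.1.2 + y.1.2 + x.1.1 ^ 5 + y.1.1 ^ 5 + x.1.1 * y.1.1 ^ 4) * h2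

/-- The centre of `H` is the kernel of `T`. -/
noncomputable def centerEquiv : Subgroup.center (H F) ≃ (T (F := F)).ker where
  toFun z := ⟨z.1.1.2, by
    have h := (mem_center_H z.1).mp z.2
    have h3 := z.1.2
    rw [AddMonoidHom.mem_ker, T_apply, h3, h]
    simp⟩
  invFun c := ⟨⟨(0, c.1), by
    have h : c.1 + c.1 ^ 4 = 0 := (AddMonoidHom.mem_ker).mp c.2
    simpa using h⟩, (mem_center_H _).mpr rfl⟩
  left_inv z := by
    apply Subtype.ext
    apply H_ext
    · exact ((mem_center_H z.1).mp z.2).symm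
    · rfl
  right_inv c := rfl

theorem good_H : Good (H F) where
  card := card_H
  card_center := by
    rw [Nat.card_congr (centerEquiv (F := F)), card_ker]
  inv_central x hx := by
    rw [mem_center_H]
    have h := sq_snd x
    rw [hx, one_snd] at h
    exact pow_eq_zero_iff (n := 5) (by norm_num) |>.mp h.symm
  center_inv z hz := by
    rw [mem_center_H] at hz
    apply H_ext
    · exact sq_fst z
    · rw [sq_snd, hz]; simp
  center_comm z hz := by
    rw [mem_center_H] at hz
    have hz' : z.1.2 + z.1.2 ^ 4 = 0 := by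
      have := z.2
      rw [hz] at this
      simpa using this
    obtain ⟨s, hs⟩ := exists_trace (card_F' hf.out) z.1.2 (frob_eq_of_T _ hz')
    let x : H F := ⟨(1, sec 1), sec_spec 1⟩
    let y : H F := ⟨(s, sec s), sec_spec s⟩
    refine ⟨x, y, ?_⟩
    apply H_ext
    · rw [comm_fst, hz]
    · rw [comm_snd]
      change z.1.2 = 1 * s ^ 4 + s * 1 ^ 4
      rw [← hs]
      ring
  comm_central x y := by
    rw [mem_center_H]
    exact comm_fst x y
  sq_central x := by
    rw [mem_center_H]
    exact sq_fst x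

lemma mem_center_of_equiv {X Y : Type*} [Group X] [Group Y] (e : X ≃* Y) (x : X) :
    x ∈ Subgroup.center X ↔ e x ∈ Subgroup.center Y := by
  simp only [Subgroup.mem_center_iff]
  constructor
  · intro h g
    obtain ⟨g', rfl⟩ := e.surjective g
    rw [← map_mul, ← map_mul, h]
  · intro h g
    apply e.injective
    rw [map_mul, map_mul, h]

lemma Good.of_equiv {X Y : Type*} [Group X] [Group Y] (e : X ≃* Y) (h : Good Y) : Good X where
  card := (Nat.card_congr e.toEquiv).trans h.card
  card_center := (Nat.card_congr (Subgroup.centerCongr e).toEquiv).trans h.card_center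
  inv_central x hx := by
    rw [mem_center_of_equiv e]
    apply h.inv_central
    rw [← map_mul, hx, map_one]
  center_inv z hz := by
    rw [mem_center_of_equiv e] at hz
    apply e.injective
    rw [map_mul, h.center_inv _ hz, map_one]
  center_comm z hz := by
    rw [mem_center_of_equiv e] at hz
    obtain ⟨x, y, hxy⟩ := h.center_comm _ hz
    refine ⟨e.symm x, e.symm y, ?_⟩
    apply e.injective
    rw [hxy, map_commutatorElement]
    simp
  comm_central x y := by
    rw [mem_center_of_equiv e, map_commutatorElement]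
    exact h.comm_central _ _
  sq_central x := by
    rw [mem_center_of_equiv e, map_mul]
    exact h.sq_central _

theorem Good.props {X : Type*} [Group X] (h : Good X) :
    Nat.card X = 64 ∧ IsKleinFour (Subgroup.center X) ∧
      Subgroup.center X = Subgroup.closure {x : X | orderOf x = 2} ∧
      Subgroup.center X = commutator X ∧
      Nat.card (X ⧸ Subgroup.center X) = 16 ∧ ∀ x : X ⧸ Subgroup.center X, x ^ 2 = 1 := by
  refine ⟨h.card, ?_, ?_, ?_, ?_, ?_⟩
  · refine ⟨h.card_center, ?_⟩
    have hfin : Finite (Subgroup.center X) := Nat.finite_of_card_ne_zero (by rw [h.card_center]; norm_num)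
    have : Nontrivial (Subgroup.center X) :=
      Finite.one_lt_card_iff_nontrivial.mp (by rw [h.card_center]; norm_num)
    rw [Monoid.exponent_eq_prime_iff Nat.prime_two]
    intro g hg
    apply orderOf_eq_prime
    · apply Subtype.ext
      rw [pow_two]
      exact h.center_inv g.1 g.2
    · exact hg
  · apply le_antisymm
    · intro z hz
      by_cases hz1 : z = 1
      · rw [hz1]; exact Subgroup.one_mem _
      · apply Subgroup.subset_closure
        apply orderOf_eq_prime (p := 2)
        · rw [pow_two]; exact h.center_inv z hz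
        · exact hz1
    · rw [Subgroup.closure_le]
      intro x hx
      apply h.inv_central
      rw [← pow_two, ← hx, pow_orderOf_eq_one]
  · apply le_antisymm
    · intro z hz
      obtain ⟨x, y, rfl⟩ := h.center_comm z hz
      exact Subgroup.commutator_mem_commutator (Subgroup.mem_top x) (Subgroup.mem_top y)
    · rw [commutator_def, Subgroup.commutator_le]
      intro x _ y _
      exact h.comm_central x y
  · have h1 := Subgroup.card_eq_card_quotient_mul_card_subgroup (Subgroup.center X)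
    rw [h.card, h.card_center] at h1
    omega
  · intro x
    induction x using QuotientGroup.induction_on with
    | H x =>
      rw [← QuotientGroup.mk_pow, pow_two, QuotientGroup.eq_one_iff]
      exact h.sq_central x

lemma card_center_SU' : Nat.card (Subgroup.center (Cfsg.SU 3 F 4)) = 1 := by
  rw [Cfsg.Agent.Lib.Classical.HermOrders.card_center_SU (card_F' hf.out) 3 (by norm_num)]
  decide

lemma center_SU_eq_bot : Subgroup.center (Cfsg.SU 3 F 4) = ⊥ :=
  Subgroup.eq_bot_of_card_eq _ card_center_SU'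

lemma card_PSU' : Nat.card (Cfsg.PSU 3 F 4) = 2 ^ 6 * 975 := by
  have h := Cfsg.Agent.Lib.Classical.HermOrders.card_PSU (card_F' hf.out) 3 (by norm_num)
  simp [Finset.prod_range_succ, Nat.even_iff] at h
  omega

/-- The composite homomorphism from the model to `PSU₃(4)`. -/
noncomputable def ψ : H F →* Cfsg.PSU 3 F 4 :=
  (QuotientGroup.mk' (Subgroup.center (Cfsg.SU 3 F 4))).comp ι

lemma ψ_injective : Function.Injective (ψ (F := F)) := by
  intro x y hxy
  apply ι_injective
  have h := (QuotientGroup.eq_iff_div_mem (N := Subgroup.center (Cfsg.SU 3 F 4))).mp hxy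
  rw [center_SU_eq_bot, Subgroup.mem_bot, div_eq_one] at h
  exact h

theorem nonempty_equiv (S : Sylow 2 (Cfsg.PSU 3 F 4)) : Nonempty ((S : Subgroup (Cfsg.PSU 3 F 4)) ≃* H F) := by
  have hS : Nat.card S = 2 ^ 6 := Cfsg.Agent.Lib.TwoFusion.SylowForms.card_sylow_of_eq S (by decide) card_PSU'
  have hr : Nat.card (ψ (F := F)).range = 64 := by
    rw [Nat.card_congr (MonoidHom.ofInjective ψ_injective).toEquiv.symm, card_H]
  have hp : IsPGroup 2 (ψ (F := F)).range := by
    apply IsPGroup.of_card (n := 6)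
    rw [hr]; norm_num
  obtain ⟨Q, hQ⟩ := hp.exists_le_sylow
  have hQc : Nat.card Q = 2 ^ 6 := Cfsg.Agent.Lib.TwoFusion.SylowForms.card_sylow_of_eq Q (by decide) card_PSU'
  have hQe : (Q : Subgroup (Cfsg.PSU 3 F 4)) = (ψ (F := F)).range := by
    symm
    apply Subgroup.eq_of_le_of_card_ge hQ
    rw [hr, hQc]; norm_num
  exact ⟨((Sylow.equiv S Q).trans (MulEquiv.subgroupCongr hQe)).trans (MonoidHom.ofInjective ψ_injective).symm⟩

end Cfsg.Agent.Lib.TwoFusion.U34
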