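import Cfsg.Agent.Lib.TwoFusion.SU3Key
import Cfsg.Prelude.Def_Solvable
import Cfsg.Prelude.Def_Transfer

/-!
# The automorphism group of the Sylow 2-subgroup of `SU₃(q)`, `q = 2ⁿ`
-/

set_option autoImplicit false
set_option linter.unusedSectionVars false
set_option linter.unusedVariables false
set_option linter.style.haveILetI false

namespace Cfsg.Agent.Lib.TwoFusion.SU3Aut

open Cfsg.Agent.Lib.SuzukiTwo.PSU3 Cfsg.Agent.Lib.HermCount.Field
open Cfsg.Agent.Lib.TwoFusion.SU3q Cfsg.Agent.Lib.TwoFusion.SU3Key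

variable {F : Type*} [Field F] [Fintype F] {q : ℕ}
variable [hf : Fact (Fintype.card F = q ^ 2)] [h2F : Fact ((2 : F) = 0)]

instance : Finite (H F q) := by
  unfold H
  infer_instance

/-- The central element attached to an element of the fixed field. -/
noncomputable def ofFix (c : F) (hc : c ^ q = c) : H F q := ⟨(0, c), by
  have h2 := two0 (F := F)
  have hq := two_le hf.out
  rw [hc, zero_pow (by omega)]
  linear_combination c * h2⟩

@[simp] lemma ofFix_fst (c : F) (hc : c ^ q = c) : (ofFix c hc : H F q).1.1 = 0 := rfl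
@[simp] lemma ofFix_snd (c : F) (hc : c ^ q = c) : (ofFix c hc : H F q).1.2 = c := rfl

open scoped _root_.Classical in
/-- The action on the fixed field. -/
noncomputable def tau2 (τ : MulAut (H F q)) (c : F) : F :=
  if hc : c ^ q = c then (τ (ofFix c hc)).1.2 else 0

lemma tau2_of (τ : MulAut (H F q)) (c : F) (hc : c ^ q = c) :
    tau2 τ c = (τ (ofFix c hc)).1.2 := by
  unfold tau2
  rw [dif_pos hc]

lemma tau2_add (τ : MulAut (H F q)) (c d : F) (hc : c ^ q = c) (hd : d ^ q = d) :
    tau2 τ (c + d) = tau2 τ c + tau2 τ d := by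
  have hcd : (c + d) ^ q = c + d := by rw [ad, hc, hd]
  rw [tau2_of τ c hc, tau2_of τ d hd, tau2_of τ _ hcd]
  have e : (ofFix (c + d) hcd : H F q) = ofFix c hc * ofFix d hd := by
    apply H_ext
    · simp
    · simp
  rw [e, map_mul, mul_snd, aut_center τ _ (ofFix_fst c hc)]
  ring

lemma tau1_norm (τ : MulAut (H F q)) (a : F) :
    (tau1 τ a) ^ (q + 1) = tau2 τ (a ^ (q + 1)) := by
  have hfix : (a ^ (q + 1)) ^ q = a ^ (q + 1) := by
    rw [pow_succ, mul_pow, pw]
    ring
  rw [tau2_of τ _ hfix]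
  let x : H F q := secH a
  have e : (ofFix _ hfix : H F q) = x * x := by
    apply H_ext
    · rw [sq_fst']
      rfl
    · rw [sq_snd']
      rfl
  rw [e, map_mul, sq_snd', ← tau1_apply]
  rfl

lemma tau1_injective (τ : MulAut (H F q)) : Function.Injective (tau1 τ) := by
  rw [injective_iff_map_eq_zero]
  intro a ha
  let x : H F q := secH a
  have h1 : (τ x).1.1 = 0 := by
    rw [← tau1_apply]
    exact ha
  have h3 := aut_center τ⁻¹ _ h1
  have : (τ⁻¹ (τ x)) = x := MulAut.inv_apply_self _ _ _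
  rw [this] at h3
  exact h3

lemma tau1_bijective (τ : MulAut (H F q)) : Function.Bijective (tau1 τ) :=
  Finite.injective_iff_bijective.mp (tau1_injective τ)

lemma tau1_mul (τ τ' : MulAut (H F q)) (a : F) : tau1 (τ * τ') a = tau1 τ (tau1 τ' a) := by
  have h1 := tau1_apply (τ * τ') (secH (q := q) a)
  have h3 := tau1_apply τ' (secH (q := q) a)
  have h4 := tau1_apply τ (τ' (secH (q := q) a))
  rw [secH_fst] at h1 h3
  rw [h1, ← h3] at *
  rw [h4]
  rfl

lemma tau1_one (a : F) : tau1 (1 : MulAut (H F q)) a = a := by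
  have h1 := tau1_apply (1 : MulAut (H F q)) (secH (q := q) a)
  rw [secH_fst] at h1
  rw [h1]
  rfl

/-- The homomorphism to permutations of `F`. -/
noncomputable def Θ : MulAut (H F q) →* Equiv.Perm F where
  toFun τ := Equiv.ofBijective (tau1 τ) (tau1_bijective τ)
  map_one' := by
    ext a
    exact tau1_one (q := q) a
  map_mul' τ τ' := by
    ext a
    exact tau1_mul τ τ' a

@[simp] lemma Θ_apply (τ : MulAut (H F q)) (a : F) : Θ τ a = tau1 τ a := rfl

/-- The description of the image. -/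
theorem exists_semilinear (τ : MulAut (H F q)) :
    ∃ σ : F ≃+* F, ∀ a, tau1 τ a = tau1 τ 1 * σ a :=
  key' (q := q) (tau1 τ) (tau1_injective τ) (tau2 τ) (tau2_add τ) (tau1_norm τ)

/-- The semilinear automorphisms of the model. -/
noncomputable def Gh (u : Fˣ) (σ : F ≃+* F) : H F q →* H F q where
  toFun x := ⟨((u : F) * σ x.1.1, (u : F) ^ (q + 1) * σ x.1.2), by
    have hx := x.2
    have e1 : ((u : F) ^ (q + 1)) ^ q = (u : F) ^ (q + 1) := by
      rw [pow_succ, mul_pow, pw]
      ring
    simp only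
    rw [mul_pow ((u : F) ^ (q + 1)), e1, ← map_pow σ x.1.2, mul_pow (u : F), ← map_pow σ x.1.1,
      ← mul_add, ← map_add, hx]⟩
  map_one' := by
    apply H_ext
    · show (u : F) * σ 0 = 0
      simp
    · show (u : F) ^ (q + 1) * σ 0 = 0
      simp
  map_mul' x y := by
    have hq := two_le hf.out
    apply H_ext
    · show (u : F) * σ (x.1.1 + y.1.1) = (u : F) * σ x.1.1 + (u : F) * σ y.1.1
      rw [map_add, mul_add]
    · show (u : F) ^ (q + 1) * σ (x.1.2 + y.1.2 + x.1.1 * y.1.1 ^ q) =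
        (u : F) ^ (q + 1) * σ x.1.2 + (u : F) ^ (q + 1) * σ y.1.2 +
          (u : F) * σ x.1.1 * ((u : F) * σ y.1.1) ^ q
      rw [map_add, map_add, map_mul, map_pow, mul_pow]
      ring

lemma Gh_fst (u : Fˣ) (σ : F ≃+* F) (x : H F q) : (Gh u σ x).1.1 = (u : F) * σ x.1.1 := rfl
lemma Gh_snd (u : Fˣ) (σ : F ≃+* F) (x : H F q) :
    (Gh u σ x).1.2 = (u : F) ^ (q + 1) * σ x.1.2 := rfl

lemma Gh_injective (u : Fˣ) (σ : F ≃+* F) : Function.Injective (Gh (q := q) u σ) := by
  intro x y hxy
  have h1 := congrArg (fun z : H F q => z.1.1) hxy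
  have h3 := congrArg (fun z : H F q => z.1.2) hxy
  simp only [Gh_fst, Gh_snd] at h1 h3
  have hu : (u : F) ≠ 0 := u.ne_zero
  apply H_ext
  · exact σ.injective (mul_left_cancel₀ hu h1)
  · exact σ.injective (mul_left_cancel₀ (pow_ne_zero _ hu) h3)

/-- The semilinear automorphisms of the model. -/
noncomputable def G (u : Fˣ) (σ : F ≃+* F) : MulAut (H F q) :=
  MulEquiv.ofBijective (Gh u σ) (Finite.injective_iff_bijective.mp (Gh_injective u σ))

lemma G_fst (u : Fˣ) (σ : F ≃+* F) (x : H F q) : (G u σ x).1.1 = (u : F) * σ x.1.1 := rfl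

lemma tau1_G (u : Fˣ) (σ : F ≃+* F) (a : F) : tau1 (G (q := q) u σ) a = (u : F) * σ a := by
  have h1 := tau1_apply (G (q := q) u σ) (secH (q := q) a)
  rw [secH_fst] at h1
  rw [h1, G_fst, secH_fst]

/-! ### The image -/

/-- The parameter map. -/
noncomputable def gp (p : Fˣ × (F ≃+* F)) : Equiv.Perm F := Θ (G (q := q) p.1 p.2)

lemma gp_apply (p : Fˣ × (F ≃+* F)) (a : F) : gp (q := q) p a = (p.1 : F) * p.2 a := tau1_G _ _ _

lemma gp_injective : Function.Injective (gp (F := F) (q := q)) := by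
  rintro ⟨u, σ⟩ ⟨v, ρ⟩ h
  have h1 : ∀ a, (u : F) * σ a = (v : F) * ρ a := by
    intro a
    have := congrArg (fun g : Equiv.Perm F => g a) h
    simpa only [gp_apply] using this
  have huv : u = v := by
    apply Units.ext
    have := h1 1
    simpa using this
  subst huv
  have : σ = ρ := by
    ext a
    exact mul_left_cancel₀ u.ne_zero (h1 a)
  rw [this]

lemma range_Θ : (Θ (F := F) (q := q)).range = (Set.range (gp (F := F) (q := q)) : Set _) := by
  ext g
  constructor
  · rintro ⟨τ, rfl⟩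
    obtain ⟨σ, hσ⟩ := exists_semilinear τ
    have hu : tau1 τ 1 ≠ 0 := fun h => one_ne_zero ((tau1_injective τ) (h.trans (map_zero _).symm))
    refine ⟨(Units.mk0 _ hu, σ), ?_⟩
    ext a
    rw [gp_apply, Θ_apply, hσ a]
    rfl
  · rintro ⟨p, rfl⟩
    exact ⟨_, rfl⟩

lemma card_aut_field {n : ℕ} (hq : q = 2 ^ n) (hn : 1 ≤ n) : Nat.card (F ≃+* F) = 2 * n := by
  haveI : Fact (Nat.Prime 2) := ⟨Nat.prime_two⟩
  apply Cfsg.Agent.Lib.KS71.PSLAutGroup.card_ringEquiv (p := 2)
  · rw [hf.out, hq, ← pow_mul, mul_comm]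
  · omega

lemma card_range_Θ {n : ℕ} (hq : q = 2 ^ n) (hn : 1 ≤ n) :
    Nat.card (Θ (F := F) (q := q)).range = (q ^ 2 - 1) * (2 * n) := by
  classical
  have h1 : Nat.card (Θ (F := F) (q := q)).range = Nat.card (Set.range (gp (F := F) (q := q))) := by
    apply Nat.card_congr
    exact Equiv.setCongr range_Θ
  rw [h1, Nat.card_range_of_injective gp_injective, Nat.card_prod, card_aut_field hq hn,
    Nat.card_eq_fintype_card (α := Fˣ), Fintype.card_units, hf.out]

/-! ### The kernel -/

/-- The fixed field as an additive subgroup. -/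
noncomputable abbrev KK (F : Type*) [Field F] [Fintype F] (q : ℕ) [hf : Fact (Fintype.card F = q ^ 2)]
    [h2F : Fact ((2 : F) = 0)] : AddSubgroup F := (T F q).ker

lemma KK_mem (c : F) : c ∈ KK F q ↔ c ^ q = c := by
  constructor
  · intro h
    exact frob_eq_of_T c (by simpa [T_apply] using (AddMonoidHom.mem_ker.mp h))
  · intro h
    apply AddMonoidHom.mem_ker.mpr
    rw [T_apply]
    exact T_of_frob c h

/-- The central automorphisms. -/
noncomputable def Eh (φ : F →+ KK F q) : H F q →* H F q where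
  toFun x := ⟨(x.1.1, x.1.2 + (φ x.1.1).1), by
    have hx := x.2
    have h1 : ((φ x.1.1).1) ^ q = (φ x.1.1).1 := (KK_mem _).1 (φ x.1.1).2
    have h2 := two0 (F := F)
    simp only
    rw [ad, h1]
    linear_combination hx + (φ x.1.1).1 * h2⟩
  map_one' := by
    apply H_ext
    · rfl
    · show (0 : F) + (φ 0).1 = 0
      simp
  map_mul' x y := by
    apply H_ext
    · rfl
    · show x.1.2 + y.1.2 + x.1.1 * y.1.1 ^ q + (φ (x.1.1 + y.1.1)).1 =
        x.1.2 + (φ x.1.1).1 + (y.1.2 + (φ y.1.1).1) + x.1.1 * y.1.1 ^ q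
      rw [map_add]
      push_cast
      ring

lemma Eh_fst (φ : F →+ KK F q) (x : H F q) : (Eh φ x).1.1 = x.1.1 := rfl
lemma Eh_snd (φ : F →+ KK F q) (x : H F q) : (Eh φ x).1.2 = x.1.2 + (φ x.1.1).1 := rfl

lemma Eh_Eh (φ : F →+ KK F q) (x : H F q) : Eh φ (Eh φ x) = x := by
  have h2 := two0 (F := F)
  apply H_ext
  · rfl
  · show x.1.2 + (φ x.1.1).1 + (φ x.1.1).1 = x.1.2
    linear_combination (φ x.1.1).1 * h2

/-- The central automorphisms. -/
noncomputable def E (φ : F →+ KK F q) : MulAut (H F q) :=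
  { Eh φ with
    invFun := Eh φ
    left_inv := Eh_Eh φ
    right_inv := Eh_Eh φ }

lemma E_fst (φ : F →+ KK F q) (x : H F q) : (E φ x).1.1 = x.1.1 := rfl
lemma E_snd (φ : F →+ KK F q) (x : H F q) : (E φ x).1.2 = x.1.2 + (φ x.1.1).1 := rfl

lemma Θ_E (φ : F →+ KK F q) : Θ (E φ) = 1 := by
  ext a
  show tau1 (E φ) a = a
  have h1 := tau1_apply (E φ) (secH (q := q) a)
  rw [secH_fst] at h1
  rw [h1, E_fst, secH_fst]

lemma E_injective : Function.Injective (E (F := F) (q := q)) := by
  intro φ ψ h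
  ext a
  have h1 := congrArg (fun τ : MulAut (H F q) => (τ (secH a)).1.2) h
  simp only [E_snd, secH_fst] at h1
  exact add_left_cancel h1

/-- Every element of the kernel of `Θ` is central. -/
theorem exists_E (τ : MulAut (H F q)) (hτ : Θ τ = 1) : ∃ φ : F →+ KK F q, τ = E φ := by
  have h2 := two0 (F := F)
  have hq2 := two_le hf.out
  have h1 : ∀ a, tau1 τ a = a := fun a => by
    have := congrArg (fun g : Equiv.Perm F => g a) hτ
    simpa using this
  have hfst : ∀ x : H F q, (τ x).1.1 = x.1.1 := fun x => by rw [← tau1_apply, h1]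
  -- `τ` is trivial on the centre
  have h3 : ∀ c (hc : c ^ q = c), τ (ofFix c hc) = ofFix c hc := by
    intro c hc
    by_cases hc0 : c = 0
    · subst hc0
      have : (ofFix 0 hc : H F q) = 1 := by
        apply H_ext <;> rfl
      rw [this, map_one]
    · -- norms are surjective
      have hpos : 0 < Nat.card {a : F // a ^ (q + 1) = c} := by
        rw [card_norm_fiber hf.out c hc hc0]
        omega
      haveI : Finite {a : F // a ^ (q + 1) = c} := inferInstance
      obtain ⟨⟨a, ha⟩⟩ := (Nat.card_pos_iff.mp hpos).1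
      have hn := tau1_norm τ a
      rw [h1, ha, tau2_of τ c hc] at hn
      apply H_ext
      · exact hfst _
      · exact hn.symm
  -- the cocycle
  let z : H F q → F := fun x => (τ x).1.2 + x.1.2
  have hzmem : ∀ x, z x ∈ KK F q := by
    intro x
    rw [KK_mem]
    have e1 := (τ x).2
    have e3 := x.2
    rw [hfst] at e1
    show ((τ x).1.2 + x.1.2) ^ q = (τ x).1.2 + x.1.2
    rw [ad]
    linear_combination e1 - e3 + (x.1.2 ^ q - (τ x).1.2) * h2
  have hzmul : ∀ x y, z (x * y) = z x + z y := by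
    intro x y
    show (τ (x * y)).1.2 + (x * y).1.2 = (τ x).1.2 + x.1.2 + ((τ y).1.2 + y.1.2)
    rw [map_mul, mul_snd, mul_snd, hfst x]
    rw [hfst y]
    linear_combination (x.1.1 * y.1.1 ^ q) * h2
  have hzcent : ∀ x (c : F) (hc : c ^ q = c), z (x * ofFix c hc) = z x := by
    intro x c hc
    rw [hzmul]
    have : z (ofFix c hc) = 0 := by
      show (τ (ofFix c hc)).1.2 + (ofFix c hc).1.2 = 0
      rw [h3]
      show c + c = 0
      linear_combination c * h2
    rw [this, add_zero]
  have hzfst : ∀ x y : H F q, x.1.1 = y.1.1 → z x = z y := by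
    intro x y hxy
    have hc : (x⁻¹ * y).1.1 = 0 := by
      rw [mul_fst, inv_fst, hxy]
      linear_combination y.1.1 * h2
    have hfx : (x⁻¹ * y).1.2 ^ q = (x⁻¹ * y).1.2 := fix_of_invol _ hc
    have e : y = x * ofFix _ hfx := by
      have : (ofFix _ hfx : H F q) = x⁻¹ * y := by
        apply H_ext
        · exact hc.symm
        · rfl
      rw [this]
      group
    rw [e, hzcent]
  let φ : F →+ KK F q :=
    { toFun := fun a => ⟨z (secH a), hzmem _⟩
      map_zero' := by
        apply Subtype.ext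
        show z (secH 0) = 0
        have : z (secH 0) = z 1 := hzfst _ _ rfl
        rw [this]
        show (τ 1).1.2 + (1 : H F q).1.2 = 0
        rw [map_one]
        show (0 : F) + 0 = 0
        simp
      map_add' := fun a b => by
        apply Subtype.ext
        show z (secH (a + b)) = z (secH a) + z (secH b)
        rw [← hzmul]
        exact hzfst _ _ (by simp) }
  refine ⟨φ, ?_⟩
  ext x
  apply H_ext
  · exact hfst x
  · show (τ x).1.2 = x.1.2 + z (secH x.1.1)
    have : z (secH x.1.1) = z x := hzfst _ _ rfl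
    rw [this]
    show (τ x).1.2 = x.1.2 + ((τ x).1.2 + x.1.2)
    linear_combination - x.1.2 * h2

lemma ker_Θ : (Θ (F := F) (q := q)).ker = (Set.range (E (F := F) (q := q)) : Set _) := by
  ext τ
  constructor
  · intro h
    obtain ⟨φ, rfl⟩ := exists_E τ (MonoidHom.mem_ker.mp h)
    exact ⟨φ, rfl⟩
  · rintro ⟨φ, rfl⟩
    exact MonoidHom.mem_ker.mpr (Θ_E φ)

lemma E_mul (φ ψ : F →+ KK F q) : E φ * E ψ = E (φ + ψ) := by
  ext x
  apply H_ext
  · rfl
  · show x.1.2 + (ψ x.1.1).1 + (φ x.1.1).1 = x.1.2 + ((φ + ψ) x.1.1).1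
    simp only [AddMonoidHom.add_apply, AddSubgroup.coe_add]
    ring

lemma card_KK {n : ℕ} (hq : q = 2 ^ n) : Nat.card (KK F q) = 2 ^ n := by
  rw [card_ker, hq]

lemma card_hom {n : ℕ} (hq : q = 2 ^ n) : Nat.card (F →+ KK F q) = 2 ^ (2 * n ^ 2) := by
  classical
  haveI : Fact (Nat.Prime 2) := ⟨Nat.prime_two⟩
  have h2 := two0 (F := F)
  letI : Module (ZMod 2) F := AddCommGroup.zmodModule (n := 2) (by
    intro x
    rw [two_nsmul]
    linear_combination x * h2)
  letI : Module (ZMod 2) (KK F q) := AddCommGroup.zmodModule (n := 2) (by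
    intro x
    rw [two_nsmul]
    apply Subtype.ext
    show x.1 + x.1 = 0
    linear_combination x.1 * h2)
  haveI : Fintype (KK F q) := Fintype.ofFinite _
  have h1 : Module.finrank (ZMod 2) F = 2 * n := by
    have := Module.card_eq_pow_finrank (K := ZMod 2) (V := F)
    rw [ZMod.card, hf.out, hq, ← pow_mul, mul_comm n 2] at this
    exact (Nat.pow_right_injective (le_refl 2) this).symm
  have h3 : Module.finrank (ZMod 2) (KK F q) = n := by
    have := Module.card_eq_pow_finrank (K := ZMod 2) (V := KK F q)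
    rw [ZMod.card, ← Nat.card_eq_fintype_card, card_KK hq] at this
    exact (Nat.pow_right_injective (le_refl 2) this).symm
  let e : (F →+ KK F q) ≃ (F →ₗ[ZMod 2] KK F q) :=
    { toFun := fun f => f.toZModLinearMap 2
      invFun := fun f => f.toAddMonoidHom
      left_inv := fun f => by ext; rfl
      right_inv := fun f => by ext; rfl }
  rw [Nat.card_congr e]
  have h4 : Module.finrank (ZMod 2) (F →ₗ[ZMod 2] KK F q) = 2 * n ^ 2 := by
    rw [Module.finrank_linearMap, h1, h3]
    ring
  haveI : Finite (F →+ KK F q) :=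
    Finite.of_injective (fun f => (f : F → KK F q)) DFunLike.coe_injective
  haveI : Finite (F →ₗ[ZMod 2] KK F q) := Finite.of_equiv _ e
  haveI : Fintype (F →ₗ[ZMod 2] KK F q) := Fintype.ofFinite _
  rw [Nat.card_eq_fintype_card, Module.card_eq_pow_finrank (K := ZMod 2), ZMod.card, h4]

lemma card_ker_Θ {n : ℕ} (hq : q = 2 ^ n) :
    Nat.card (Θ (F := F) (q := q)).ker = 2 ^ (2 * n ^ 2) := by
  have h1 : Nat.card (Θ (F := F) (q := q)).ker = Nat.card (Set.range (E (F := F) (q := q))) := by
    apply Nat.card_congr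
    exact Equiv.setCongr ker_Θ
  rw [h1, Nat.card_range_of_injective E_injective, card_hom hq]

theorem card_aut {n : ℕ} (hq : q = 2 ^ n) (hn : 1 ≤ n) :
    Nat.card (MulAut (H F q)) = 2 ^ (2 * n ^ 2) * (2 * n * (q ^ 2 - 1)) := by
  have h1 := (Θ (F := F) (q := q)).ker.card_mul_index
  rw [Subgroup.index_ker, card_ker_Θ hq, card_range_Θ hq hn] at h1
  rw [← h1]
  ring

theorem isElementaryAbelian_ker : Cfsg.IsElementaryAbelian 2 (Θ (F := F) (q := q)).ker := by
  constructor
  · refine ⟨⟨fun a b => ?_⟩⟩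
    obtain ⟨φ, hφ⟩ := exists_E a.1 (MonoidHom.mem_ker.mp a.2)
    obtain ⟨ψ, hψ⟩ := exists_E b.1 (MonoidHom.mem_ker.mp b.2)
    apply Subtype.ext
    show a.1 * b.1 = b.1 * a.1
    rw [hφ, hψ, E_mul, E_mul, add_comm]
  · intro a ha
    obtain ⟨φ, rfl⟩ := exists_E a (MonoidHom.mem_ker.mp ha)
    ext x
    rw [pow_two]
    exact Eh_Eh φ x

/-! ### The core -/

lemma eq_one_of_pow (x : F) (k : ℕ) (h : x ^ (2 ^ k) = 1) : x = 1 := by
  induction k with
  | zero => simpa using h
  | succ k ih =>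
    apply ih
    apply sq_inj
    rw [one_pow, ← pow_mul, ← pow_succ]
    exact h

theorem pCore_eq : Cfsg.pCore 2 (MulAut (H F q)) = (Θ (F := F) (q := q)).ker := by
  classical
  apply le_antisymm
  · apply sSup_le
    rintro N ⟨hN, hp⟩
    intro τ hτ
    -- `Θ` of a `2`-element which is a scalar is trivial
    have hscal : ∀ (c : MulAut (H F q)), c ∈ N → ∀ w : F, (∀ a, tau1 c a = w * a) → w = 1 := by
      intro c hc w hw
      obtain ⟨k, hk⟩ := (hp ⟨c, hc⟩)
      have hk' : c ^ (2 ^ k) = 1 := congrArg Subtype.val hk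
      have hpow : ∀ (m : ℕ) (a : F), tau1 (c ^ m) a = w ^ m * a := by
        intro m
        induction m with
        | zero =>
          intro a
          rw [pow_zero, pow_zero, one_mul]
          exact tau1_one a
        | succ m ih =>
          intro a
          rw [pow_succ, tau1_mul, hw, ih, pow_succ]
          ring
      have := hpow (2 ^ k) 1
      rw [hk', tau1_one, mul_one] at this
      exact eq_one_of_pow w k this.symm
    obtain ⟨σ, hσ⟩ := exists_semilinear τ
    have hu : tau1 τ 1 ≠ 0 := fun h => one_ne_zero ((tau1_injective τ) (h.trans (map_zero _).symm))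
    -- commutators with scalars
    have hσ1 : ∀ v : Fˣ, σ (v : F) = v := by
      intro v
      let δ : MulAut (H F q) := G v (RingEquiv.refl F)
      have hδ : ∀ a, tau1 δ a = (v : F) * a := fun a => tau1_G _ _ _
      let c : MulAut (H F q) := τ * δ * τ⁻¹ * δ⁻¹
      have hcN : c ∈ N := by
        have h1 : δ * τ⁻¹ * δ⁻¹ ∈ N := hN.conj_mem _ (N.inv_mem hτ) δ
        have : c = τ * (δ * τ⁻¹ * δ⁻¹) := by
          show τ * δ * τ⁻¹ * δ⁻¹ = _
          group
        rw [this]
        exact N.mul_mem hτ h1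
      have hc : ∀ a, tau1 c a = (σ (v : F) * (v : F)⁻¹) * a := by
        intro a
        have hb : tau1 τ (tau1 τ⁻¹ (tau1 δ⁻¹ a)) = tau1 δ⁻¹ a := by
          rw [← tau1_mul, mul_inv_cancel, tau1_one]
        have hd : tau1 δ⁻¹ a = (v : F)⁻¹ * a := by
          have h1 : tau1 δ (tau1 δ⁻¹ a) = a := by
            rw [← tau1_mul, mul_inv_cancel, tau1_one]
          rw [hδ] at h1
          field_simp
          linear_combination h1
        show tau1 (τ * δ * τ⁻¹ * δ⁻¹) a = _
        rw [tau1_mul, tau1_mul, tau1_mul, hδ]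
        set y := tau1 τ⁻¹ (tau1 δ⁻¹ a) with hy
        rw [hσ ((v : F) * y), map_mul, hd] at *
        have hb' : tau1 τ 1 * σ y = (v : F)⁻¹ * a := by
          rw [← hb, hσ y]
        calc tau1 τ 1 * (σ (v : F) * σ y) = σ (v : F) * (tau1 τ 1 * σ y) := by ring
          _ = _ := by rw [hb']; ring
      have := hscal c hcN _ hc
      have hv : (v : F) ≠ 0 := v.ne_zero
      field_simp at this
      exact this
    have hσid : ∀ a, σ a = a := by
      intro a
      by_cases ha : a = 0
      · rw [ha, map_zero]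
      · exact hσ1 (Units.mk0 a ha)
    have h1 : tau1 τ 1 = 1 := hscal τ hτ _ (fun a => by rw [hσ a, hσid])
    apply MonoidHom.mem_ker.mpr
    ext a
    show tau1 τ a = a
    rw [hσ a, hσid, h1, one_mul]
  · apply le_sSup
    refine ⟨MonoidHom.normal_ker _, ?_⟩
    intro a
    refine ⟨1, ?_⟩
    apply Subtype.ext
    have := isElementaryAbelian_ker.2 a.1 a.2
    simpa using this

/-- `pCore` is mapped into `pCore` under isomorphisms. -/
theorem pCore_map_le {G₁ G₂ : Type*} [Group G₁] [Group G₂] (f : G₁ ≃* G₂) (p : ℕ) (x : G₁)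
    (hx : x ∈ Cfsg.pCore p G₁) : f x ∈ Cfsg.pCore p G₂ := by
  have key : Cfsg.pCore p G₁ ≤ (Cfsg.pCore p G₂).comap f.toMonoidHom := by
    apply sSup_le
    rintro N ⟨hN, hp⟩
    intro x hx
    show f x ∈ Cfsg.pCore p G₂
    have hle : N.map f.toMonoidHom ≤ Cfsg.pCore p G₂ := by
      apply le_sSup
      refine ⟨Subgroup.Normal.map hN _ f.surjective, ?_⟩
      rintro ⟨_, z, hz, rfl⟩
      obtain ⟨k, hk⟩ := hp ⟨z, hz⟩
      refine ⟨k, ?_⟩
      apply Subtype.ext
      have : z ^ p ^ k = 1 := congrArg Subtype.val hk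
      show (f z) ^ p ^ k = 1
      rw [← map_pow, this, map_one]
    exact hle ⟨x, hx, rfl⟩
  exact key hx

/-- `pCore` is invariant under isomorphisms. -/
theorem pCore_comap {G₁ G₂ : Type*} [Group G₁] [Group G₂] (f : G₁ ≃* G₂) (p : ℕ) :
    Cfsg.pCore p G₁ = (Cfsg.pCore p G₂).comap f.toMonoidHom := by
  apply le_antisymm
  · intro x hx
    exact pCore_map_le f p x hx
  · intro x hx
    have h := pCore_map_le f.symm p (f x) hx
    rwa [f.symm_apply_apply] at h

end Cfsg.Agent.Lib.TwoFusion.SU3Aut
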