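import Cfsg.Agent.Lib.TwoFusion.SU3q
import Cfsg.Agent.Lib.KS71.PSLAutGroup

/-!
# Additive maps of `F_{q²}` which are semilinear for the norm are field automorphisms up to a scalar
-/

set_option autoImplicit false
set_option linter.unusedSectionVars false
set_option linter.unusedVariables false
set_option linter.style.haveILetI false

namespace Cfsg.Agent.Lib.TwoFusion.SU3Key

open Cfsg.Agent.Lib.SuzukiTwo.PSU3 Cfsg.Agent.Lib.HermCount.Field
open scoped BigOperators

variable {F : Type*} [Field F] [Fintype F] {q : ℕ}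
variable [hf : Fact (Fintype.card F = q ^ 2)] [h2F : Fact ((2 : F) = 0)]

/-- The fixed field of `x ↦ x ^ q`. -/
noncomputable def Fix (F : Type*) [Field F] [Fintype F] (q : ℕ) [hf : Fact (Fintype.card F = q ^ 2)] :
    Subfield F :=
  (frobHom hf.out).eqLocusField (RingHom.id F)

lemma mem_Fix (c : F) : c ∈ Fix F q ↔ c ^ q = c := Iff.rfl

/-- Automorphisms of a finite field of characteristic two are powers of squaring. -/
theorem exists_pow_of_ringEquiv {K : Type*} [Field K] [Fintype K] (h2 : (2 : K) = 0)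
    (s : K ≃+* K) : ∃ k : ℕ, ∀ c : K, s c = c ^ (2 ^ k) := by
  classical
  haveI : Fact (Nat.Prime 2) := ⟨Nat.prime_two⟩
  haveI : CharP K 2 := by
    apply CharTwo.of_one_ne_zero_of_two_eq_zero one_ne_zero h2
  letI : Algebra (ZMod 2) K := ZMod.algebra K 2
  let s' : K ≃ₐ[ZMod 2] K := AlgEquiv.ofRingEquiv (f := s) (by
    intro r
    have : ((s : K →+* K).comp (algebraMap (ZMod 2) K)) = algebraMap (ZMod 2) K :=
      RingHom.ext_zmod _ _
    exact DFunLike.congr_fun this r)
  obtain ⟨⟨k, hk⟩, hk'⟩ :=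
    (FiniteField.bijective_frobeniusAlgEquivOfAlgebraic_pow (ZMod 2) K).2 s'
  refine ⟨k, fun c => ?_⟩
  have h1 : s' c = (FiniteField.frobeniusAlgEquivOfAlgebraic (ZMod 2) K ^ k) c := by
    rw [← hk']
  have h3 : s c = s' c := rfl
  rw [h3, h1]
  rw [AlgEquiv.coe_pow, FiniteField.coe_frobeniusAlgEquivOfAlgebraic_iterate]
  simp [ZMod.card]

/-- The `q`-Frobenius as a ring automorphism. -/
noncomputable def frobEquiv : F ≃+* F :=
  RingEquiv.ofRingHom (frobHom hf.out) (frobHom hf.out)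
    (by ext x; exact frob_frob hf.out x) (by ext x; exact frob_frob hf.out x)

@[simp] lemma frobEquiv_apply (x : F) : frobEquiv (q := q) x = x ^ q := rfl

/-- Powers of squaring as a ring automorphism. -/
noncomputable def sqPow (k : ℕ) : F ≃+* F :=
  haveI : Fact (Nat.Prime 2) := ⟨Nat.prime_two⟩
  haveI : CharP F 2 := CharTwo.of_one_ne_zero_of_two_eq_zero one_ne_zero h2F.out
  RingEquiv.ofBijective (iterateFrobenius F 2 k) (by
    constructor
    · exact (iterateFrobenius F 2 k).injective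
    · exact Finite.surjective_of_injective (iterateFrobenius F 2 k).injective)

@[simp] lemma sqPow_apply (k : ℕ) (x : F) : sqPow k x = x ^ (2 ^ k) := by
  haveI : Fact (Nat.Prime 2) := ⟨Nat.prime_two⟩
  haveI : CharP F 2 := CharTwo.of_one_ne_zero_of_two_eq_zero one_ne_zero h2F.out
  show iterateFrobenius F 2 k x = _
  rw [iterateFrobenius_def]

/-- The key theorem: additive bijections respecting the norm up to an additive map. -/
theorem key (τ₁ : F →+ F) (hinj : Function.Injective τ₁) (t : F → F)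
    (ht : ∀ c d : F, c ^ q = c → d ^ q = d → t (c + d) = t c + t d)
    (hN : ∀ a, (τ₁ a) ^ (q + 1) = t (a ^ (q + 1))) (h1 : τ₁ 1 = 1) :
    ∃ σ : F ≃+* F, ∀ a, τ₁ a = σ a := by
  classical
  have h2 := two0 (F := F)
  have hq2 : 2 ≤ q := two_le hf.out
  have hone : (1 : F) ^ q = 1 := one_pow q
  have hzero : (0 : F) ^ q = 0 := zero_pow (by omega)
  have hNfix : ∀ a : F, (a ^ (q + 1)) ^ q = a ^ (q + 1) := by
    intro a
    rw [pow_succ, mul_pow, pw]
    ring
  have hadd : ∀ a b : F, (a + b) ^ (q + 1) = a ^ (q + 1) + b ^ (q + 1) + (a * b ^ q + a ^ q * b) := by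
    intro a b
    rw [pow_succ, ad]
    ring
  have hpolfix : ∀ a b : F, (a * b ^ q + a ^ q * b) ^ q = a * b ^ q + a ^ q * b := by
    intro a b
    rw [ad, mul_pow, mul_pow, pw, pw]
    ring
  have ht0 : t 0 = 0 := by
    have := ht 0 0 hzero hzero
    rw [add_zero] at this
    exact left_eq_add.mp this
  -- polar identity
  have hpol : ∀ a b : F, t (a * b ^ q + a ^ q * b) =
      τ₁ a * (τ₁ b) ^ q + (τ₁ a) ^ q * τ₁ b := by
    intro a b
    have e1 := hN (a + b)
    rw [map_add, hadd, hadd, ht _ _ (by rw [ad, hNfix, hNfix]) (hpolfix a b),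
      ht _ _ (hNfix a) (hNfix b), ← hN, ← hN] at e1
    linear_combination -e1
  have ht1 : t 1 = 1 := by
    have := hN 1
    rw [h1, one_pow] at this
    exact this.symm
  -- trace
  have htr : ∀ a : F, t (a + a ^ q) = τ₁ a + (τ₁ a) ^ q := by
    intro a
    have := hpol a 1
    rw [hone, h1, hone, mul_one, mul_one, mul_one, mul_one] at this
    exact this
  -- the fixed field is preserved
  have hfix : ∀ c : F, c ^ q = c → (τ₁ c) ^ q = τ₁ c := by
    intro c hc
    have e := htr c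
    have e0 : c + c ^ q = 0 := by
      rw [hc]
      linear_combination c * h2
    rw [e0, ht0] at e
    linear_combination - e - (τ₁ c) * h2
  -- semilinearity
  have hsemi : ∀ c e : F, c ^ q = c → e ^ q = e → t (c * e) = τ₁ c * t e := by
    intro c e hc he
    obtain ⟨a, ha⟩ := exists_trace hf.out e he
    have e1 := hpol a c
    have e2 := htr a
    rw [ha] at e2
    rw [hc, hfix c hc] at e1
    have e3 : a * c + a ^ q * c = c * e := by rw [← ha]; ring
    rw [e3] at e1
    rw [e1, e2]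
    ring
  have htau : ∀ c : F, c ^ q = c → t c = τ₁ c := by
    intro c hc
    have := hsemi c 1 hc hone
    rwa [mul_one, ht1, mul_one] at this
  have hmul : ∀ c e : F, c ^ q = c → e ^ q = e → τ₁ (c * e) = τ₁ c * τ₁ e := by
    intro c e hc he
    have hce : (c * e) ^ q = c * e := by rw [mul_pow, hc, he]
    rw [← htau _ hce, hsemi c e hc he, htau e he]
  -- the automorphism of the fixed field
  let K := Fix F q
  let s₀ : K →+* K :=
    { toFun := fun c => ⟨τ₁ c.1, hfix c.1 c.2⟩
      map_one' := Subtype.ext h1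
      map_mul' := fun c e => Subtype.ext (hmul c.1 e.1 c.2 e.2)
      map_zero' := Subtype.ext (map_zero τ₁)
      map_add' := fun c e => Subtype.ext (map_add τ₁ c.1 e.1) }
  have hs₀ : Function.Bijective s₀ := by
    apply Finite.injective_iff_bijective.mp
    exact s₀.injective
  obtain ⟨k, hk⟩ := exists_pow_of_ringEquiv (K := K) (Subtype.ext h2) (RingEquiv.ofBijective s₀ hs₀)
  have hk' : ∀ c : F, c ^ q = c → τ₁ c = c ^ (2 ^ k) := by
    intro c hc
    have := hk ⟨c, hc⟩
    exact congrArg Subtype.val this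
  -- compare with the power of Frobenius
  let σ₀ : F ≃+* F := sqPow k
  have hσ₀ : ∀ c : F, c ^ q = c → τ₁ c = σ₀ c := by
    intro c hc
    rw [hk' c hc]
    exact (sqPow_apply k c).symm
  have hσq : ∀ a : F, σ₀ (a ^ q) = (σ₀ a) ^ q := fun a => map_pow σ₀ a q
  have hroots : ∀ a : F, τ₁ a = σ₀ a ∨ τ₁ a = (σ₀ a) ^ q := by
    intro a
    have etr : τ₁ a + (τ₁ a) ^ q = σ₀ a + (σ₀ a) ^ q := by
      have hfa : (a + a ^ q) ^ q = a + a ^ q := by
        rw [ad, pw]
        ring
      rw [← htr, htau _ hfa, hσ₀ _ hfa, map_add, hσq]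
    have enr : (τ₁ a) ^ (q + 1) = (σ₀ a) ^ (q + 1) := by
      rw [hN, htau _ (hNfix a), hσ₀ _ (hNfix a), map_pow]
    have e : (τ₁ a + σ₀ a) * (τ₁ a + (σ₀ a) ^ q) = 0 := by
      have : (τ₁ a + σ₀ a) * (τ₁ a + (σ₀ a) ^ q) =
          (τ₁ a) * (τ₁ a + σ₀ a + (σ₀ a) ^ q) + (σ₀ a) ^ (q + 1) := by ring
      rw [this]
      have e' : τ₁ a + σ₀ a + (σ₀ a) ^ q = (τ₁ a) ^ q + (2 : F) * τ₁ a := by
        linear_combination -etr
      rw [e', ← enr, h2]
      have : τ₁ a * ((τ₁ a) ^ q + 0 * τ₁ a) + τ₁ a ^ (q + 1) = 2 * τ₁ a ^ (q + 1) := by ring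
      rw [this, h2, zero_mul]
    rcases mul_eq_zero.mp e with h | h
    · left
      linear_combination h - σ₀ a * h2
    · right
      linear_combination h - (σ₀ a) ^ q * h2
  -- two subgroups cover
  by_cases hall : ∀ a, τ₁ a = σ₀ a
  · exact ⟨σ₀, hall⟩
  · push Not at hall
    obtain ⟨a, ha⟩ := hall
    refine ⟨σ₀.trans (frobEquiv (q := q)), fun b => ?_⟩
    show τ₁ b = (σ₀ b) ^ q
    have haB : τ₁ a = (σ₀ a) ^ q := (hroots a).resolve_left ha
    rcases hroots b with hb | hb
    · rcases hroots (a + b) with hab | hab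
      · exfalso
        apply ha
        rw [map_add, map_add, hb] at hab
        exact add_right_cancel hab
      · rw [map_add, map_add, ad, haB] at hab
        exact add_left_cancel hab
    · exact hb

/-- With a scalar. -/
theorem key' (τ₁ : F →+ F) (hinj : Function.Injective τ₁) (t : F → F)
    (ht : ∀ c d : F, c ^ q = c → d ^ q = d → t (c + d) = t c + t d)
    (hN : ∀ a, (τ₁ a) ^ (q + 1) = t (a ^ (q + 1))) :
    ∃ σ : F ≃+* F, ∀ a, τ₁ a = τ₁ 1 * σ a := by
  have hu : τ₁ 1 ≠ 0 := fun h => one_ne_zero (hinj (h.trans (map_zero τ₁).symm))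
  set u := τ₁ 1 with hu'
  let τ' : F →+ F :=
    { toFun := fun a => u⁻¹ * τ₁ a
      map_zero' := by simp
      map_add' := fun a b => by rw [map_add, mul_add] }
  have hτ' : ∀ a, τ' a = u⁻¹ * τ₁ a := fun a => rfl
  have hnorm : (u⁻¹ ^ (q + 1)) ^ q = u⁻¹ ^ (q + 1) := by
    rw [pow_succ, mul_pow, pw]
    ring
  obtain ⟨σ, hσ⟩ := key (q := q) τ'
    (fun a b hab => hinj (mul_left_cancel₀ (inv_ne_zero hu) hab))
    (fun c => u⁻¹ ^ (q + 1) * t c)
    (fun c d hc hd => by rw [ht c d hc hd, mul_add])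
    (fun a => by rw [hτ', mul_pow, hN])
    (by rw [hτ', ← hu', inv_mul_cancel₀ hu])
  refine ⟨σ, fun a => ?_⟩
  rw [← hσ, hτ', mul_inv_cancel_left₀ hu]

end Cfsg.Agent.Lib.TwoFusion.SU3Key
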