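import Cfsg.Agent.Lib.SuzukiTwo.PSU3

/-!
# The Sylow 2-subgroup of `SU₃(q)`, `q` even: the model, and totally singular subspaces of
the quadratic forms `λ ∘ N`
-/

set_option autoImplicit false
set_option linter.unusedSectionVars false
set_option linter.unusedVariables false

namespace Cfsg.Agent.Lib.TwoFusion.SU3q

open Cfsg.Agent.Lib.SuzukiTwo.PSU3 Cfsg.Agent.Lib.HermCount.Field
open scoped BigOperators

variable {F : Type*} [Field F] [Fintype F] {q : ℕ}
variable [hf : Fact (Fintype.card F = q ^ 2)] [h2F : Fact ((2 : F) = 0)]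

/-- Every Sylow `2`-subgroup of `SU₃(q)` is isomorphic to the model. -/
theorem nonempty_equiv_SU {n : ℕ} (hq : q = 2 ^ n) (hn : 1 ≤ n) (S : Sylow 2 (Cfsg.SU 3 F q)) :
    Nonempty ((S : Subgroup (Cfsg.SU 3 F q)) ≃* H F q) := by
  have hq2 : Even q := by
    rw [hq]
    exact Nat.even_pow.mpr ⟨even_two, by omega⟩
  have hqpos : 1 ≤ q := by rw [hq]; exact Nat.one_le_two_pow
  obtain ⟨m, hm, hcard⟩ : ∃ m, Odd m ∧ Nat.card (Cfsg.SU 3 F q) = 2 ^ (n * 3) * m := by
    have h := Cfsg.Agent.Lib.Classical.HermOrders.card_SU hf.out 3 (by norm_num)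
    simp only [Finset.prod_range_succ, Finset.prod_range_zero, one_mul] at h
    norm_num [Nat.even_iff] at h
    obtain ⟨t, ht⟩ : ∃ t, q ^ 2 = t + 1 := ⟨q ^ 2 - 1, by
      have : 1 ≤ q ^ 2 := Nat.one_le_pow _ _ hqpos
      omega⟩
    have ht' : q ^ 2 - 1 = t := by omega
    rw [ht'] at h
    have htodd : Odd t := by
      have h2 : Even (t + 1) := by
        rw [← ht]
        exact Nat.even_pow.mpr ⟨hq2, by norm_num⟩
      rcases Nat.even_or_odd t with h3 | h3
      · exact absurd h2 (by simpa [Nat.even_add_one] using h3)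
      · exact h3
    have hodd : Odd (q ^ 3 + 1) := Even.add_one (Nat.even_pow.mpr ⟨hq2, by norm_num⟩)
    refine ⟨t * (q ^ 3 + 1), htodd.mul hodd, ?_⟩
    have e : (q + 1) * Nat.card (Cfsg.SU 3 F q) = (q + 1) * (2 ^ (n * 3) * (t * (q ^ 3 + 1))) := by
      have : 2 ^ (n * 3) = q ^ 3 := by rw [hq, pow_mul]
      rw [this, h]
      ring
    exact Nat.eq_of_mul_eq_mul_left (by omega) e
  have hS : Nat.card S = 2 ^ (n * 3) :=
    Cfsg.Agent.Lib.TwoFusion.SylowForms.card_sylow_of_eq S hm hcard
  have hinj : Function.Injective (ι (F := F) (q := q)) := ι_injective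
  have hr : Nat.card (ι (F := F) (q := q)).range = 2 ^ (n * 3) := by
    rw [Nat.card_congr (MonoidHom.ofInjective hinj).toEquiv.symm, card_H, pow_mul, hq]
  have hp : IsPGroup 2 (ι (F := F) (q := q)).range := IsPGroup.of_card hr
  obtain ⟨Q, hQ⟩ := hp.exists_le_sylow
  have hQc : Nat.card Q = 2 ^ (n * 3) :=
    Cfsg.Agent.Lib.TwoFusion.SylowForms.card_sylow_of_eq Q hm hcard
  have hQe : (Q : Subgroup (Cfsg.SU 3 F q)) = (ι (F := F) (q := q)).range := by
    symm
    apply Subgroup.eq_of_le_of_card_ge hQ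
    rw [hr, hQc]
  exact ⟨((Sylow.equiv S Q).trans (MulEquiv.subgroupCongr hQe)).trans
    (MonoidHom.ofInjective hinj).symm⟩

/-! ## Signs -/

/-- The sign character of `ZMod 2`. -/
def sg (z : ZMod 2) : ℤ := if z = 0 then 1 else -1

lemma sg_add (x y : ZMod 2) : sg (x + y) = sg x * sg y := by
  revert x y
  decide

@[simp] lemma sg_zero : sg 0 = 1 := rfl
@[simp] lemma sg_one : sg 1 = -1 := rfl

lemma sg_sq (x : ZMod 2) : sg x * sg x = 1 := by
  revert x
  decide

lemma zmod2_eq_one (z : ZMod 2) (h : z ≠ 0) : z = 1 := by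
  revert z
  decide

/-- A sum of signs along a non-zero additive map vanishes. -/
lemma sum_sg_eq_zero {A : Type*} [AddCommGroup A] [Fintype A] (l : A →+ ZMod 2) (a₀ : A)
    (h : l a₀ = 1) : ∑ x, sg (l x) = 0 := by
  have h1 : ∑ x, sg (l x) = ∑ x, sg (l (x + a₀)) :=
    (Equiv.sum_comp (Equiv.addRight a₀) (fun x => sg (l x))).symm
  have h2 : ∑ x, sg (l (x + a₀)) = - ∑ x, sg (l x) := by
    rw [← Finset.sum_neg_distrib]
    apply Finset.sum_congr rfl
    intro x _
    rw [map_add, h, sg_add, sg_one]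
    ring
  omega

/-! ## The counting argument -/

section form

variable (l : F →+ ZMod 2)

/-- The quadratic form. -/
def fq (q : ℕ) (l : F →+ ZMod 2) (x : F) : ZMod 2 := l (x ^ (q + 1))

/-- The polar form. -/
def bq (q : ℕ) (l : F →+ ZMod 2) (x y : F) : ZMod 2 := l (x * y ^ q + x ^ q * y)

lemma fq_add (x y : F) : fq q l (x + y) = fq q l x + fq q l y + bq q l x y := by
  have h2 := two0 (F := F)
  have e : (x + y) ^ (q + 1) = x ^ (q + 1) + y ^ (q + 1) + (x * y ^ q + x ^ q * y) := by
    rw [pow_succ, ad]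
    ring
  unfold fq bq
  rw [e, map_add, map_add]

lemma bq_add_left (x x' y : F) : bq q l (x + x') y = bq q l x y + bq q l x' y := by
  unfold bq
  rw [← map_add, ad]
  congr 1
  ring

lemma bq_add_right (x y y' : F) : bq q l x (y + y') = bq q l x y + bq q l x y' := by
  unfold bq
  rw [← map_add, ad]
  congr 1
  ring

lemma sg_fq_add (x y : F) : sg (fq q l (x + y)) = sg (fq q l x) * sg (fq q l y) * sg (bq q l x y) := by
  rw [fq_add, sg_add, sg_add]

/-- Nondegeneracy of the polar form. -/
lemma exists_bq_eq_one (c₀ : F) (hc₀ : c₀ ^ q = c₀) (hl : l c₀ = 1) (u : F) (hu : u ≠ 0) :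
    ∃ x : F, bq q l x u = 1 := by
  obtain ⟨s, hs⟩ := exists_trace hf.out c₀ hc₀
  have hu' : u ^ q ≠ 0 := pow_ne_zero _ hu
  refine ⟨s / u ^ q, ?_⟩
  unfold bq
  have e : s / u ^ q * u ^ q + (s / u ^ q) ^ q * u = c₀ := by
    rw [div_pow, pw, div_mul_cancel₀ _ hu', div_mul_cancel₀ _ hu, hs]
  rw [e, hl]

/-- The additive map `x ↦ b(x, u)`. -/
def bqHom (u : F) : F →+ ZMod 2 where
  toFun x := bq q l x u
  map_zero' := by
    have := bq_add_left (q := q) l (0 : F) 0 u
    simpa using this
  map_add' x y := bq_add_left l x y u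

lemma sum_sg_bq (c₀ : F) (hc₀ : c₀ ^ q = c₀) (hl : l c₀ = 1) (u : F) (hu : u ≠ 0) :
    ∑ x : F, sg (bq q l x u) = 0 := by
  obtain ⟨x₀, hx₀⟩ := exists_bq_eq_one (q := q) l c₀ hc₀ hl u hu
  exact sum_sg_eq_zero (bqHom (q := q) l u) x₀ hx₀

/-- The value of the Gauss sum. -/
lemma sum_sg_fq (c₀ : F) (hc₀ : c₀ ^ q = c₀) (hl : l c₀ = 1) :
    ∑ x : F, sg (fq q l x) = - (q : ℤ) := by
  classical
  -- the subgroup of the fixed field
  let K : AddSubgroup F := (T F q).ker
  have hKmem : ∀ c : F, c ∈ K ↔ c ^ q = c := by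
    intro c
    constructor
    · intro h
      exact frob_eq_of_T c (by simpa [T_apply] using (AddMonoidHom.mem_ker.mp h))
    · intro h
      apply AddMonoidHom.mem_ker.mpr
      rw [T_apply]
      exact T_of_frob c h
  haveI : Fintype K := Fintype.ofFinite _
  have hc₀K : c₀ ∈ K := (hKmem c₀).2 hc₀
  have hsumK : ∑ c : K, sg (l c.1) = 0 := by
    let l' : K →+ ZMod 2 := l.comp K.subtype
    exact sum_sg_eq_zero l' ⟨c₀, hc₀K⟩ hl
  -- fibres of the norm
  have hN : ∀ x : F, x ^ (q + 1) ∈ K := by
    intro x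
    rw [hKmem, pow_succ, mul_pow, pw]
    ring
  let N : F → K := fun x => ⟨x ^ (q + 1), hN x⟩
  have hN0 : ∀ x : F, N x = 0 ↔ x = 0 := by
    intro x
    constructor
    · intro h
      have : x ^ (q + 1) = 0 := congrArg Subtype.val h
      exact pow_eq_zero_iff (by omega) |>.mp this
    · rintro rfl
      apply Subtype.ext
      show (0 : F) ^ (q + 1) = 0
      simp
  have hfib : ∀ c : K, c ≠ 0 → (Finset.univ.filter (fun x => N x = c)).card = q + 1 := by
    intro c hc
    have hc0 : (c : F) ≠ 0 := fun h => hc (Subtype.ext h)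
    have h1 := card_norm_fiber hf.out (c : F) ((hKmem _).1 c.2) hc0
    rw [← h1, Nat.card_eq_fintype_card, Fintype.card_subtype]
    congr 1
    ext x
    simp only [Finset.mem_filter, Finset.mem_univ, true_and, N]
    exact ⟨fun h => congrArg Subtype.val h, fun h => Subtype.ext h⟩
  have hfib0 : (Finset.univ.filter (fun x => N x = 0)).card = 1 := by
    rw [Finset.card_eq_one]
    refine ⟨0, ?_⟩
    ext x
    simp [hN0]
  have e1 : ∑ x : F, sg (fq q l x) = ∑ x : F, sg (l (N x).1) := rfl
  have e2 : ∑ x : F, sg (l (N x).1) =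
      ∑ c : K, ((Finset.univ.filter (fun x => N x = c)).card : ℤ) * sg (l c.1) := by
    rw [← Finset.sum_fiberwise (s := Finset.univ) (g := N) (f := fun x => sg (l (N x).1))]
    apply Finset.sum_congr rfl
    intro c _
    rw [Finset.sum_congr rfl (g := fun _ => sg (l c.1))]
    · simp
    · intro x hx
      rw [(Finset.mem_filter.mp hx).2]
  have e3 : ∑ c : K, ((Finset.univ.filter (fun x => N x = c)).card : ℤ) * sg (l c.1) =
      ∑ c : K, ((q : ℤ) + 1) * sg (l c.1) - (q : ℤ) := by
    have hsplit : ∀ (g : K → ℤ), ∑ c : K, g c = g 0 + ∑ c ∈ Finset.univ.erase (0 : K), g c := by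
      intro g
      rw [Finset.add_sum_erase _ _ (Finset.mem_univ _)]
    rw [hsplit, hsplit (fun c => ((q : ℤ) + 1) * sg (l c.1)), hfib0]
    have h0 : l ((0 : K) : F) = 0 := by simp
    have hcongr : ∑ c ∈ Finset.univ.erase (0 : K),
        ((Finset.univ.filter (fun x => N x = c)).card : ℤ) * sg (l c.1) =
        ∑ c ∈ Finset.univ.erase (0 : K), ((q : ℤ) + 1) * sg (l c.1) := by
      apply Finset.sum_congr rfl
      intro c hc
      rw [hfib c (Finset.ne_of_mem_erase hc)]
      push_cast
      ring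
    rw [hcongr, h0, sg_zero]
    push_cast
    ring
  rw [e1, e2, e3, ← Finset.mul_sum, hsumK]
  ring

/-- If `f = λ ∘ N` vanishes on the additive subgroup `W`, then `|W| < q`. -/
theorem card_lt_of_singular (c₀ : F) (hc₀ : c₀ ^ q = c₀) (hl : l c₀ = 1) (W : AddSubgroup F)
    (hW : ∀ a ∈ W, fq q l a = 0) : Nat.card W < q := by
  classical
  by_contra hlt
  push Not at hlt
  haveI : Fintype W := Fintype.ofFinite _
  have hq2 : 2 ≤ q := two_le hf.out
  have hF : Fintype.card F = q ^ 2 := hf.out
  have hcW : Nat.card W = Fintype.card W := Nat.card_eq_fintype_card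
  -- `b` vanishes on `W × W`
  have hbW : ∀ a ∈ W, ∀ b ∈ W, bq q l a b = 0 := by
    intro a ha b hb
    have h := fq_add (q := q) l a b
    rw [hW _ (W.add_mem ha hb), hW _ ha, hW _ hb] at h
    simpa using h.symm
  -- the function `g`
  let g : F → ℤ := fun x => ∑ w : W, sg (bq q l x w.1)
  let P : Finset F := Finset.univ.filter (fun x => ∀ w : W, bq q l x w.1 = 0)
  have hbr0 : ∀ x : F, bq q l x 0 = 0 := by
    intro x
    have := bq_add_right (q := q) l x 0 0
    simpa using this
  have hg1 : ∀ x ∈ P, g x = Fintype.card W := by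
    intro x hx
    have hx' := (Finset.mem_filter.mp hx).2
    have : g x = ∑ w : W, (1 : ℤ) := Finset.sum_congr rfl (fun w _ => by rw [hx' w, sg_zero])
    rw [this]
    simp
  have hg0 : ∀ x, x ∉ P → g x = 0 := by
    intro x hx
    have hx' : ∃ w : W, bq q l x w.1 ≠ 0 := by
      by_contra hcon
      push Not at hcon
      exact hx (Finset.mem_filter.mpr ⟨Finset.mem_univ _, hcon⟩)
    obtain ⟨w₀, hw₀⟩ := hx'
    have hw₁ : bq q l x w₀.1 = 1 := zmod2_eq_one _ hw₀
    let h' : W →+ ZMod 2 :=
      { toFun := fun w => bq q l x w.1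
        map_zero' := hbr0 x
        map_add' := fun a b => bq_add_right l x a.1 b.1 }
    exact sum_sg_eq_zero h' w₀ hw₁
  -- first identity
  have hmain : (Fintype.card W : ℤ) * ∑ x : F, sg (fq q l x) =
      (Fintype.card W : ℤ) * ∑ x ∈ P, sg (fq q l x) := by
    have h1 : ∀ w : W, ∑ x : F, sg (fq q l x) = ∑ x : F, sg (fq q l x) * sg (bq q l x w.1) := by
      intro w
      rw [← Equiv.sum_comp (Equiv.addRight w.1) (fun x => sg (fq q l x))]
      apply Finset.sum_congr rfl
      intro x _
      simp only [Equiv.coe_addRight]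
      rw [sg_fq_add, hW _ w.2, sg_zero]
      ring
    calc (Fintype.card W : ℤ) * ∑ x : F, sg (fq q l x)
        = ∑ w : W, ∑ x : F, sg (fq q l x) := by simp
      _ = ∑ w : W, ∑ x : F, sg (fq q l x) * sg (bq q l x w.1) :=
          Finset.sum_congr rfl (fun w _ => h1 w)
      _ = ∑ x : F, sg (fq q l x) * g x := by
          rw [Finset.sum_comm]
          apply Finset.sum_congr rfl
          intro x _
          rw [Finset.mul_sum]
      _ = ∑ x ∈ P, sg (fq q l x) * g x := by
          symm
          apply Finset.sum_subset (Finset.subset_univ _)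
          intro x _ hx
          rw [hg0 x hx, mul_zero]
      _ = (Fintype.card W : ℤ) * ∑ x ∈ P, sg (fq q l x) := by
          rw [Finset.mul_sum]
          apply Finset.sum_congr rfl
          intro x hx
          rw [hg1 x hx]
          ring
  -- second identity
  have hsq : (P.card : ℤ) * (Fintype.card W : ℤ) ^ 2 = (Fintype.card W : ℤ) * (q : ℤ) ^ 2 := by
    have h1 : ∑ x : F, g x * g x = (P.card : ℤ) * (Fintype.card W : ℤ) ^ 2 := by
      rw [← Finset.sum_subset (Finset.subset_univ P)]
      · rw [Finset.sum_congr rfl (fun x hx => by rw [hg1 x hx]), Finset.sum_const, nsmul_eq_mul]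
        ring
      · intro x _ hx
        rw [hg0 x hx, mul_zero]
    have h2 : ∑ x : F, g x * g x = (Fintype.card W : ℤ) * (q : ℤ) ^ 2 := by
      have h3 : ∀ x : F, g x * g x = ∑ v : W, ∑ w : W, sg (bq q l x (v.1 + w.1)) := by
        intro x
        show (∑ w : W, sg (bq q l x w.1)) * (∑ w : W, sg (bq q l x w.1)) = _
        rw [Finset.sum_mul_sum]
        apply Finset.sum_congr rfl
        intro v _
        apply Finset.sum_congr rfl
        intro w _
        rw [bq_add_right, sg_add]
      rw [Finset.sum_congr rfl (fun x _ => h3 x), Finset.sum_comm]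
      have h4 : ∀ v : W, ∑ x : F, ∑ w : W, sg (bq q l x (v.1 + w.1)) = (q : ℤ) ^ 2 := by
        intro v
        rw [Finset.sum_comm]
        rw [← Finset.add_sum_erase _ _ (Finset.mem_univ v)]
        have h5 : ∑ x : F, sg (bq q l x (v.1 + v.1)) = (q : ℤ) ^ 2 := by
          have : v.1 + v.1 = 0 := by
            have h2 := two0 (F := F)
            linear_combination v.1 * h2
          rw [this]
          simp only [hbr0, sg_zero]
          simp [hF]
        rw [h5]
        have h6 : ∑ w ∈ Finset.univ.erase v, ∑ x : F, sg (bq q l x (v.1 + w.1)) = 0 := by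
          apply Finset.sum_eq_zero
          intro w hw
          apply sum_sg_bq l c₀ hc₀ hl
          intro h0
          apply Finset.ne_of_mem_erase hw
          apply Subtype.ext
          have h2 := two0 (F := F)
          linear_combination h0 - v.1 * h2
        rw [h6, add_zero]
      rw [Finset.sum_congr rfl (fun v _ => h4 v)]
      simp
    rw [← h1, h2]
  -- consequences
  have hWpos : 0 < Fintype.card W := Fintype.card_pos
  have hPW : P.card * Fintype.card W = q ^ 2 := by
    have h : ((P.card * Fintype.card W : ℕ) : ℤ) = ((q ^ 2 : ℕ) : ℤ) := by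
      push_cast
      have hne : (Fintype.card W : ℤ) ≠ 0 := by exact_mod_cast hWpos.ne'
      apply mul_left_cancel₀ hne
      linear_combination hsq
    exact_mod_cast h
  -- `W ⊆ P`
  have hWP : (Finset.univ.image (fun w : W => w.1)) ⊆ P := by
    intro x hx
    obtain ⟨w, _, rfl⟩ := Finset.mem_image.mp hx
    exact Finset.mem_filter.mpr ⟨Finset.mem_univ _, fun v => hbW _ w.2 _ v.2⟩
  have hcardimg : (Finset.univ.image (fun w : W => w.1)).card = Fintype.card W := by
    rw [Finset.card_image_of_injective _ Subtype.val_injective]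
    rfl
  have hPge : Fintype.card W ≤ P.card := by
    rw [← hcardimg]
    exact Finset.card_le_card hWP
  rw [hcW] at hlt
  have hWq : Fintype.card W = q := by
    have : Fintype.card W * Fintype.card W ≤ q ^ 2 := by
      rw [← hPW]
      exact Nat.mul_le_mul_right _ hPge
    nlinarith
  have hPq : P.card = q := by
    rw [hWq] at hPW
    have : P.card * q = q * q := by rw [hPW]; ring
    exact Nat.eq_of_mul_eq_mul_right (by omega) this
  have hPeq : (Finset.univ.image (fun w : W => w.1)) = P := by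
    apply Finset.eq_of_subset_of_card_le hWP
    rw [hcardimg, hPq, hWq]
  -- final computation
  have hne : (Fintype.card W : ℤ) ≠ 0 := by exact_mod_cast hWpos.ne'
  have hS := mul_left_cancel₀ hne hmain
  rw [sum_sg_fq l c₀ hc₀ hl, ← hPeq, Finset.sum_image (fun a _ b _ h => Subtype.val_injective h)] at hS
  have : ∑ w : W, sg (fq q l w.1) = q := by
    rw [Finset.sum_congr rfl (fun w _ => by rw [hW _ w.2, sg_zero])]
    simp [hWq]
  rw [this] at hS
  have : (q : ℤ) > 0 := by exact_mod_cast (by omega : 0 < q)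
  omega

end form

/-- The form of the bound used: an additive subgroup `W` whose norms lie in an additive subgroup `C`
missing an element of the fixed field has fewer than `q` elements. -/
theorem card_lt_of_norm_mem (W C : AddSubgroup F) (c₀ : F) (hc₀ : c₀ ^ q = c₀) (hc₀C : c₀ ∉ C)
    (hWC : ∀ a ∈ W, a ^ (q + 1) ∈ C) : Nat.card W < q := by
  classical
  haveI : Fact (Nat.Prime 2) := ⟨Nat.prime_two⟩
  letI : Module (ZMod 2) F := AddCommGroup.zmodModule (n := 2) (by
    intro x
    have h2 := two0 (F := F)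
    rw [two_nsmul]
    linear_combination x * h2)
  let p : Submodule (ZMod 2) F := AddSubgroup.toZModSubmodule 2 C
  have hp : c₀ ∉ p := hc₀C
  obtain ⟨f, hf1, hf2⟩ := Submodule.exists_dual_map_eq_bot_of_notMem hp inferInstance
  have hf1' : f c₀ = 1 := zmod2_eq_one _ hf1
  have hfC : ∀ c ∈ C, f c = 0 := by
    intro c hc
    have : f c ∈ p.map f := Submodule.mem_map_of_mem (show c ∈ p from hc)
    rw [hf2] at this
    exact (Submodule.mem_bot _).1 this
  let l : F →+ ZMod 2 := f.toAddMonoidHom
  apply card_lt_of_singular l c₀ hc₀ hf1' W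
  intro a ha
  exact hfC _ (hWC a ha)

/-! ## Automorphisms of the model -/

/-- The section of the projection to the first coordinate. -/
noncomputable def secH (a : F) : H F q := ⟨(a, sec q a), sec_spec a⟩

@[simp] lemma secH_fst (a : F) : (secH (q := q) a).1.1 = a := rfl

lemma sq_fst' (u : H F q) : (u * u).1.1 = 0 := by
  have h2 := two0 (F := F)
  rw [mul_fst]
  linear_combination u.1.1 * h2

lemma sq_snd' (u : H F q) : (u * u).1.2 = u.1.1 ^ (q + 1) := by
  have h2 := two0 (F := F)
  rw [mul_snd]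
  linear_combination u.1.2 * h2

/-- Squares depend only on the first coordinate. -/
lemma sq_eq_of_fst {u v : H F q} (h : u.1.1 = v.1.1) : u * u = v * v := by
  apply H_ext
  · rw [sq_fst', sq_fst']
  · rw [sq_snd', sq_snd', h]

lemma fst_conj (h x : H F q) : (h * x * h⁻¹).1.1 = x.1.1 := by
  have h2 := two0 (F := F)
  simp only [mul_fst, inv_fst]
  linear_combination h.1.1 * h2

lemma aut_center (τ : MulAut (H F q)) (z : H F q) (hz : z.1.1 = 0) : (τ z).1.1 = 0 := by
  have h1 : z ∈ Subgroup.center (H F q) := (mem_center_H z).2 hz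
  apply (mem_center_H _).1
  rw [Subgroup.mem_center_iff] at h1 ⊢
  intro g
  obtain ⟨g', rfl⟩ := τ.surjective g
  rw [← map_mul, ← map_mul, h1]

/-- The induced additive map on the first coordinates. -/
noncomputable def tau1 (τ : MulAut (H F q)) : F →+ F where
  toFun a := (τ (secH a)).1.1
  map_zero' := by
    apply aut_center
    rfl
  map_add' a b := by
    have h2 := two0 (F := F)
    have key : ∀ x y : H F q, x.1.1 = y.1.1 → (τ x).1.1 = (τ y).1.1 := by
      intro x y hxy
      have h0 : (x⁻¹ * y).1.1 = 0 := by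
        rw [mul_fst, inv_fst, hxy]
        linear_combination y.1.1 * h2
      have h1 := aut_center τ _ h0
      have e : y = x * (x⁻¹ * y) := by group
      rw [e, map_mul, mul_fst, h1, add_zero]
    rw [← mul_fst, ← map_mul]
    apply key
    simp

lemma tau1_apply (τ : MulAut (H F q)) (x : H F q) : tau1 τ x.1.1 = (τ x).1.1 := by
  have h2 := two0 (F := F)
  show (τ (secH x.1.1)).1.1 = (τ x).1.1
  have h0 : ((secH (q := q) x.1.1)⁻¹ * x).1.1 = 0 := by
    rw [mul_fst, inv_fst, secH_fst]
    linear_combination x.1.1 * h2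
  have h1 := aut_center τ _ h0
  have e : x = secH x.1.1 * ((secH (q := q) x.1.1)⁻¹ * x) := by group
  conv_rhs => rw [e, map_mul, mul_fst, h1, add_zero]

/-- An automorphism of the model whose square is inner fixes the centre pointwise. -/
theorem aut_fix_center (τ : MulAut (H F q)) (h : H F q) (hτ : ∀ x, τ (τ x) = h * x * h⁻¹)
    (z : H F q) (hz : z.1.1 = 0) : τ z = z := by
  classical
  by_contra hne
  have h2 := two0 (F := F)
  have hq2 : 2 ≤ q := two_le hf.out
  have hsq : ∀ a, tau1 τ (tau1 τ a) = a := by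
    intro a
    have e1 := tau1_apply τ (secH (q := q) a)
    have e2 := tau1_apply τ (τ (secH (q := q) a))
    rw [secH_fst] at e1
    rw [hτ, fst_conj, ← e1, secH_fst] at e2
    exact e2
  -- the additive map `τ₁ + 1`
  let D : F →+ F := tau1 τ + AddMonoidHom.id F
  have hD : ∀ a, D a = tau1 τ a + a := fun a => rfl
  have hDD : ∀ a, D (D a) = 0 := by
    intro a
    rw [hD, hD, map_add, hsq]
    linear_combination (tau1 τ a + a) * h2
  have hle : D.range ≤ D.ker := by
    rintro _ ⟨a, rfl⟩
    exact AddMonoidHom.mem_ker.mpr (hDD a)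
  have hcard : Nat.card D.ker * Nat.card D.range = q ^ 2 := by
    have := D.ker.card_mul_index
    rw [AddSubgroup.index_ker, Nat.card_eq_fintype_card (α := F), hf.out] at this
    exact this
  have hWq : q ≤ Nat.card D.ker := by
    have h1 : Nat.card D.range ≤ Nat.card D.ker := AddSubgroup.card_le_of_le hle
    have h3 : q ^ 2 ≤ Nat.card D.ker ^ 2 := by
      rw [← hcard, pow_two]
      exact Nat.mul_le_mul_left _ h1
    exact (Nat.pow_le_pow_iff_left (by norm_num)).1 h3
  -- the fixed points on the centre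
  let C : AddSubgroup F :=
    { carrier := {c | ∃ w : H F q, w.1.1 = 0 ∧ w.1.2 = c ∧ τ w = w}
      zero_mem' := ⟨1, rfl, rfl, map_one τ⟩
      add_mem' := by
        rintro a b ⟨w, h1, rfl, h3⟩ ⟨w', h1', rfl, h3'⟩
        refine ⟨w * w', ?_, ?_, ?_⟩
        · rw [mul_fst, h1, h1', add_zero]
        · rw [mul_snd, h1]
          ring
        · rw [map_mul, h3, h3']
      neg_mem' := by
        rintro a ⟨w, h1, rfl, h3⟩
        refine ⟨w, h1, ?_, h3⟩
        linear_combination w.1.2 * h2 }
  have hzc : z.1.2 ^ q = z.1.2 := fix_of_invol z hz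
  have hzC : z.1.2 ∉ C := by
    rintro ⟨w, h1, h3, h4⟩
    apply hne
    have : w = z := H_ext (h1.trans hz.symm) h3
    rwa [this] at h4
  have hWC : ∀ a ∈ D.ker, a ^ (q + 1) ∈ C := by
    intro a ha
    have ha' : tau1 τ a = a := by
      have h3 : tau1 τ a + a = 0 := AddMonoidHom.mem_ker.mp ha
      linear_combination h3 - a * h2
    let x : H F q := secH a
    have hx : (τ x).1.1 = a := by
      rw [← tau1_apply, secH_fst, ha']
    refine ⟨x * x, sq_fst' x, ?_, ?_⟩
    · rw [sq_snd', secH_fst]
    · rw [map_mul]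
      apply sq_eq_of_fst
      rw [hx]
      rfl
  have := card_lt_of_norm_mem (q := q) D.ker C z.1.2 hzc hzC hWC
  omega

end Cfsg.Agent.Lib.TwoFusion.SU3q
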